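import Groth.Agent.Lib.Exchange.Free
import Groth.Agent.Lib.Modules.AffineSections
import Groth.Agent.Lib.TensorMod.TensorInv
import Groth.Agent.Lib.TensorMod.LocFree

/-!
# Vanishing and local freeness read off the sections over affine opens
-/

set_option autoImplicit false
set_option linter.style.haveILetI false
universe u

open CategoryTheory CategoryTheory.Limits AlgebraicGeometry TopologicalSpace Opposite
open Groth.Agent.Lib Groth.Agent.Lib.FlatCx.Rank
open _root_.ZarCoh.Exchange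

namespace Groth.Agent.Lib.ExchangeFP29.Sheaf

variable {S : Scheme.{u}} (M : S.Modules) [M.IsQuasicoherent]

/-- Vanishing over an open from vanishing of the sections over affines. -/
theorem isZero_restrict (U : S.Opens)
    (h : ∀ y ∈ U, ∃ V : S.Opens, IsAffineOpen V ∧ y ∈ V ∧ V ≤ U ∧
      Subsingleton Γ(M.restrict V.ι, ⊤)) :
    IsZero (M.restrict U.ι) := by
  refine Modules.AffineSections.isZero_of_sections fun x => ?_
  obtain ⟨V, hV, hxV, hVU, hs⟩ := h x.1 x.2
  refine ⟨U.ι ⁻¹ᵁ V, ?_, hxV, ?_⟩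
  · rw [← Scheme.Hom.isAffineOpen_iff_of_isOpenImmersion U.ι, Scheme.Hom.image_preimage_eq_opensRange_inf,
      Scheme.Opens.opensRange_ι, inf_eq_right.2 hVU]
    exact hV
  · have he : U.ι ''ᵁ (U.ι ⁻¹ᵁ V) = V.ι ''ᵁ ⊤ := by
      rw [Scheme.Hom.image_preimage_eq_opensRange_inf, Scheme.Opens.opensRange_ι, inf_eq_right.2 hVU,
        V.ι_image_top]
    show Subsingleton Γ(M, U.ι ''ᵁ (U.ι ⁻¹ᵁ V))
    rw [he]
    exact hs

/-- Finite projective sections over an affine open give a free neighbourhood of the rank at the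
point. -/
theorem exists_free_nhd (V : S.Opens) [IsAffine (V : Scheme.{u})] {y : S} (hy : y ∈ V)
    (H : Type u) [AddCommGroup H] [Module (Local.AV V) H] [Module.Finite (Local.AV V) H]
    [Module.Projective (Local.AV V) H]
    (s : Γ(M.restrict V.ι, ⊤) ≃ₗ[Local.AV V] H) :
    ∃ W : S.Opens, y ∈ W ∧ Nonempty (M.restrict W.ι ≅
      FlatMod.freeMod (↑W) (fdim (A := Local.AV V) H ((V : Scheme.{u}).isoSpec.hom ⟨y, hy⟩))) := by
  let U := V.ι ''ᵁ ⊤
  have hU : IsAffineOpen U := (isAffineOpen_top (V : Scheme.{u})).image_of_isOpenImmersion V.ι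
  have hyU : y ∈ U := ⟨⟨y, hy⟩, trivial, rfl⟩
  let R' := M.restrict V.ι
  have hsm : ∀ (r : Γ(S, U)) (m : Γ(M, U)),
      (show Γ(R', ⊤) from r • m) = (show Local.AV V from r) • (show Γ(R', ⊤) from m) := fun r m => by
    show r • m = (V.ι.appIso ⊤).inv r • m
    rw [Scheme.Opens.ι_appIso]
    rfl
  letI : Module Γ(S, U) H :=
    Module.compHom _ (show Γ(S, U) →+* Local.AV V from RingHom.id _)
  let s' : Γ(M, U) ≃ₗ[Γ(S, U)] H :=
    { toFun := fun m => s (show Γ(R', ⊤) from m)
      invFun := fun h => s.symm h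
      left_inv := fun m => s.symm_apply_apply _
      right_inv := fun h => s.apply_symm_apply h
      map_add' := fun a b => s.map_add _ _
      map_smul' := fun r m => (congrArg s (hsm r m)).trans (s.map_smul _ _) }
  haveI : Module.Finite Γ(S, U) H := ‹Module.Finite (Local.AV V) H›
  haveI : Module.Projective Γ(S, U) H := ‹Module.Projective (Local.AV V) H›
  haveI : Module.Finite Γ(S, U) Γ(M, U) := Module.Finite.equiv s'.symm
  haveI : Module.Projective Γ(S, U) Γ(M, U) := Module.Projective.of_equiv s'.symm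
  obtain ⟨W, hW, hi⟩ := Free.exists_free_nhd_rank M hU hyU
  refine ⟨W, hW, ?_⟩
  let x : PrimeSpectrum (Local.AV V) := (V : Scheme.{u}).isoSpec.hom ⟨y, hy⟩
  have hx : hU.primeIdealOf ⟨y, hyU⟩ = x := by
    refine PrimeSpectrum.ext (Ideal.ext fun r => ?_)
    rw [← not_iff_not, ← TensorMod.FinsetTriv.mem_basicOpen_iff hU hyU]
    have hb : V.ι ''ᵁ (V : Scheme.{u}).basicOpen r = S.basicOpen (r : Γ(S, U)) := by
      refine (Scheme.image_basicOpen V.ι r).trans (congrArg S.basicOpen ?_)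
      rw [Scheme.Opens.ι_appIso]
      rfl
    rw [← hb]
    have hpre := SetLike.ext_iff.1 ((V : Scheme.{u}).toSpecΓ_preimage_basicOpen r) ⟨y, hy⟩
    refine Iff.trans ⟨fun ⟨z, hz, e⟩ => ?_, fun h => ⟨_, h, rfl⟩⟩ hpre.symm
    obtain rfl : z = ⟨y, hy⟩ := Subtype.ext e
    exact hz
  have he : fdim (A := Γ(S, U)) Γ(M, U) (hU.primeIdealOf ⟨y, hyU⟩) =
      fdim (A := Local.AV V) H x := by
    rw [hx]
    exact congrFun (fdim_congr (A := Γ(S, U)) Γ(M, U) s') x
  exact he ▸ hi

omit [M.IsQuasicoherent] in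
/-- Local freeness over an open from local freeness near its points. -/
theorem isFinLocFree_restrict (U : S.Opens)
    (h : ∀ y ∈ U, ∃ W : S.Opens, y ∈ W ∧ FlatMod.IsFinLocFree (M.restrict W.ι)) :
    FlatMod.IsFinLocFree (M.restrict U.ι) := by
  refine TensorMod.TensorInv.isFinLocFree_of_locally fun x => ?_
  obtain ⟨W, hxW, hW⟩ := h x.1 x.2
  let O := U.ι ⁻¹ᵁ W
  let l : (O : Scheme.{u}) ⟶ W := IsOpenImmersion.lift W.ι (O.ι ≫ U.ι) (by
    rw [Scheme.Opens.range_ι]
    rintro _ ⟨z, rfl⟩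
    exact z.2)
  have hl : l ≫ W.ι = O.ι ≫ U.ι := IsOpenImmersion.lift_fac _ _ _
  haveI : IsOpenImmersion l := IsOpenImmersion.of_comp l W.ι
  exact ⟨O, hxW, TensorMod.LocFree.of_iso
    ((Scheme.Modules.restrictFunctorComp l W.ι).symm.app M ≪≫
      (Scheme.Modules.restrictFunctorCongr hl).app M ≪≫
      (Scheme.Modules.restrictFunctorComp O.ι U.ι).app M)
    (TensorMod.LocFree.isFinLocFree_restrict l hW)⟩

end Groth.Agent.Lib.ExchangeFP29.Sheaf
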