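import Groth.Agent.Lib.ExchangeFP29.Rep
import Groth.Agent.Lib.ExchangeFP29.Sheaf
import Groth.Agent.H47.ConsFormalMod
import Groth.Prelude.Def_PerfAux

/-!
# Cohomology and base change for proper morphisms of finite presentation
-/

set_option autoImplicit false
set_option linter.style.haveILetI false
universe u

open CategoryTheory CategoryTheory.Limits AlgebraicGeometry TopologicalSpace
open Groth.Agent Groth.Agent.Lib Groth.Agent.Lib.FlatCx.Basic Groth.Agent.Lib.FlatCx.Rank
open _root_.ZarCoh.Exchange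

namespace Groth.Agent.Lib.ExchangeFP29.Main

variable {X S : Scheme.{u}} (f : X ⟶ S) (F : X.Modules)

/-- The two spellings of the fibre dimension. -/
theorem betti_eq (s : S) (i : ℕ) : PerfAux.betti f F s i = CohIII.fiberRank f F i s := rfl

section Fibre

variable [IsProper f] [F.IsQuasicoherent]

/-- The fibre cohomology is finite dimensional. -/
theorem finite_fiberH (hF : CohB1.IsFP F) (y : S) (p : ℕ) :
    @Module.Finite (S.residueField y) (CohIII.fiberH f F y p) _ _
      (CohIII.moduleFiberH f F y p) := by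
  letI : (f.fiber y).Over (Spec (CommRingCat.of (S.residueField y))) := ⟨f.fiberToSpecResidueField y⟩
  haveI : IsProper (f.fiber y ↘ Spec (CommRingCat.of (S.residueField y))) :=
    show IsProper (f.fiberToSpecResidueField y) from
      MorphismProperty.of_isPullback (IsPullback.of_hasPullback f (S.fromSpecResidueField y)) ‹_›
  haveI := QCoh.Pullback.isQCoh_pullback (f.fiberι y) F
  exact Proper.finite_HH (A := S.residueField y) (CohIII.fiberMod f F y)
    (H47.ConsFormalMod.isCoh_of_isFP _ (H47.FlatLimit.isFP_pullback (f.fiberι y) F hF)) p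

/-- Zero dimension means vanishing. -/
theorem fiberRank_eq_zero_iff (hF : CohB1.IsFP F) (y : S) (p : ℕ) :
    CohIII.fiberRank f F p y = 0 ↔ Subsingleton (CohIII.fiberH f F y p) := by
  haveI := finite_fiberH f F hF y p
  exact Module.finrank_zero_iff

end Fibre

/-- The point of the spectrum over a point of an affine open. -/
noncomputable abbrev pt (V : S.Opens) [IsAffine (V : Scheme.{u})] {y : S} (hy : y ∈ V) :
    PrimeSpectrum (Local.AV V) := (V : Scheme.{u}).isoSpec.hom ⟨y, hy⟩

theorem k_pt (V : S.Opens) [IsAffine (V : Scheme.{u})] {y : S} (hy : y ∈ V) :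
    LocalRep.k V (pt V hy) = y := by
  show ((V : Scheme.{u}).isoSpec.hom ≫ (V : Scheme.{u}).isoSpec.inv ≫ V.ι) ⟨y, hy⟩ = y
  rw [Iso.hom_inv_id_assoc]
  rfl

theorem k_mem (V : S.Opens) [IsAffine (V : Scheme.{u})] (x : PrimeSpectrum (Local.AV V)) :
    LocalRep.k V x ∈ V := ((V : Scheme.{u}).isoSpec.inv x).2

variable [IsProper f] [LocallyOfFinitePresentation f] [F.IsQuasicoherent]
  (hF : CohB1.IsFP F) (hfl : FlatMod.IsFlatOver f F)

include hF hfl

/-- The fibre dimensions are upper semicontinuous. -/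
theorem isOpen_fiberRank_lt (p n : ℕ) : IsOpen {s : S | CohIII.fiberRank f F p s < n} := by
  rw [isOpen_iff_forall_mem_open]
  intro y hy
  obtain ⟨V, hV, hyV, -⟩ := exists_isAffineOpen_mem_and_subset (U := ⊤) (x := y) trivial
  haveI : IsAffine (V : Scheme.{u}) := hV
  obtain ⟨P, hP, h⟩ := Rep.exists_local f F hF hfl V
  refine ⟨LocalRep.k V '' {x | CohIII.dRank P (-(p : ℤ)) x < n}, ?_,
    (LocalRep.k V).isOpenEmbedding.isOpenMap _ ((hP.upperSemicontinuous_dRank _).isOpen_preimage n),
    pt V hyV, ?_, k_pt V hyV⟩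
  · rintro _ ⟨x, hx, rfl⟩
    show CohIII.fiberRank f F p (LocalRep.k V x) < n
    rw [(h p).2 x]
    exact hx
  · show CohIII.dRank P (-(p : ℤ)) (pt V hyV) < n
    rw [← (h p).2, k_pt]
    exact hy

/-- The vanishing locus of the fibre cohomology is open. -/
theorem isOpen_fiberRank_eq_zero (p : ℕ) : IsOpen {s : S | CohIII.fiberRank f F p s = 0} := by
  convert isOpen_fiberRank_lt f F hF hfl p 1 using 1
  ext s
  exact Nat.lt_one_iff.symm

/-- The fibre cohomology vanishes in all degrees at least one on an open set. -/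
theorem isOpen_forall_fiberRank_eq_zero (J : Set ℕ) :
    IsOpen {s : S | ∀ j ∈ J, CohIII.fiberRank f F j s = 0} := by
  rw [isOpen_iff_forall_mem_open]
  intro y hy
  obtain ⟨V, hV, hyV, -⟩ := exists_isAffineOpen_mem_and_subset (U := ⊤) (x := y) trivial
  haveI : IsAffine (V : Scheme.{u}) := hV
  obtain ⟨P, hP, h⟩ := Rep.exists_local f F hF hfl V
  obtain ⟨N, -, hN⟩ := hP.exists_euler
  refine ⟨(V : Set S) ∩ ⋂ j ∈ {j | j < N ∧ j ∈ J}, {s : S | CohIII.fiberRank f F j s = 0}, ?_,
    V.2.inter (((Set.finite_Iio N).subset fun j hj => hj.1).isOpen_biInter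
      fun j _ => isOpen_fiberRank_eq_zero f F hF hfl j), hyV,
    Set.mem_iInter₂.2 fun j hj => hy j hj.2⟩
  rintro s ⟨hsV, hs⟩ j hj
  by_cases hjN : j < N
  · exact Set.mem_iInter₂.1 hs j ⟨hjN, hj⟩
  · rw [← k_pt V hsV, (h j).2]
    exact hN j (by omega) _

/-- The Euler characteristic of the fibres is locally constant. -/
theorem isLocallyConstant_eulerChar : IsLocallyConstant fun s : S => PerfAux.eulerChar f F s := by
  rw [IsLocallyConstant.iff_eventually_eq]
  intro y
  obtain ⟨V, hV, hyV, -⟩ := exists_isAffineOpen_mem_and_subset (U := ⊤) (x := y) trivial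
  haveI : IsAffine (V : Scheme.{u}) := hV
  obtain ⟨P, hP, h⟩ := Rep.exists_local f F hF hfl V
  obtain ⟨N, hc, hN⟩ := hP.exists_euler
  have key : ∀ x, PerfAux.eulerChar f F (LocalRep.k V x) = IntTheory.ChiConst.S P N x := by
    intro x
    unfold PerfAux.eulerChar IntTheory.ChiConst.S
    rw [finsum_eq_sum_of_support_subset _ (s := Finset.range N)]
    · exact Finset.sum_congr rfl fun p _ => by rw [betti_eq, (h p).2]
    · intro p hp
      simp only [Finset.coe_range, Set.mem_Iio]
      by_contra hpN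
      apply hp
      show (-1 : ℤ) ^ p * _ = 0
      rw [betti_eq, (h p).2, hN p (by omega)]
      simp
  have hy : LocalRep.k V (pt V hyV) = y := k_pt V hyV
  have ho := (LocalRep.k V).isOpenEmbedding
  rw [← hy, ← ho.map_nhds_eq (pt V hyV), Filter.eventually_map]
  filter_upwards [hc.eventually_eq (pt V hyV)] with z hz
  rw [key, key]
  exact hz

/-- The exchange complex over an affine open on which the fibre cohomology vanishes in degree `p`. -/
theorem exists_of_vanish (V : S.Opens) [IsAffine (V : Scheme.{u})] :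
    ∃ P : ChainComplex (ModuleCat.{u} (Local.AV V)) ℤ, Algebra.IsGood P ∧
      (∀ p : ℕ, Nonempty (CohIII.TFun P (-(p : ℤ)) ⋙
          forget₂ (ModuleCat.{u} (Local.AV V)) AddCommGrpCat.{u} ≅
        CohIII.tensorAFunctor (Local.AV V) (Local.MV f V F) ⋙ CohIII.HAb (Local.XV f V) p)) ∧
      (∀ (p : ℕ) (x : PrimeSpectrum (Local.AV V)),
          CohIII.fiberRank f F p (LocalRep.k V x) = CohIII.dRank P (-(p : ℤ)) x) ∧
      ∀ p : ℕ, (∀ y ∈ V, CohIII.fiberRank f F p y = 0) →
        Subsingleton (P.homology (-(p : ℤ))) ∧ Module.Flat (Local.AV V) (Q P (-(p : ℤ))) ∧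
          Module.Flat (Local.AV V) (Q P (-(p : ℤ) - 1)) := by
  obtain ⟨P, hP, h⟩ := Rep.exists_local f F hF hfl V
  exact ⟨P, hP, fun p => (h p).1, fun p => (h p).2, fun p hp =>
    hP.of_dRank_eq_zero _ _ (by omega) fun x => by rw [← (h p).2 x]; exact hp _ (k_mem V x)⟩

variable [HasInjectiveResolutions X.Modules]

/-- Vanishing of the higher direct image where the fibre cohomology vanishes. -/
theorem isZero_restrict (p : ℕ) (U : S.Opens)
    (hU : ∀ y ∈ U, CohIII.fiberRank f F p y = 0) :
    IsZero (((Coh.Rpush f p).obj F).restrict U.ι) := by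
  haveI : Coh.IsQCoh F := ‹F.IsQuasicoherent›
  haveI : ((Coh.Rpush f p).obj F).IsQuasicoherent := Groth.Agent.S0030.result f F p
  refine Sheaf.isZero_restrict _ U fun y hy => ?_
  obtain ⟨V, hV, hyV, hVU⟩ := exists_isAffineOpen_mem_and_subset (x := y) hy
  haveI : IsAffine (V : Scheme.{u}) := hV
  obtain ⟨P, -, he, -, hz⟩ := exists_of_vanish f F hF hfl V
  obtain ⟨e⟩ := he p
  obtain ⟨s⟩ := Rep.nonempty_sections f F V e
  haveI := (hz p fun z hz => hU z (hVU hz)).1
  exact ⟨V, hV, hyV, hVU, s.injective.subsingleton⟩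

omit [LocallyOfFinitePresentation f] hF hfl in
/-- A higher direct image is free of the fibre dimension near a point around which both cokernels
are flat. -/
theorem exists_free_nhd (p : ℕ) {V : S.Opens} [IsAffine (V : Scheme.{u})]
    {P : ChainComplex (ModuleCat.{u} (Local.AV V)) ℤ} (hP : Algebra.IsGood P)
    (e : CohIII.TFun P (-(p : ℤ)) ⋙
        forget₂ (ModuleCat.{u} (Local.AV V)) AddCommGrpCat.{u} ≅
      CohIII.tensorAFunctor (Local.AV V) (Local.MV f V F) ⋙ CohIII.HAb (Local.XV f V) p)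
    (hp : Module.Flat (Local.AV V) (Q P (-(p : ℤ))))
    (hq : Module.Flat (Local.AV V) (Q P (-(p : ℤ) - 1))) {y : S} (hy : y ∈ V) :
    ∃ W : S.Opens, y ∈ W ∧ Nonempty (((Coh.Rpush f p).obj F).restrict W.ι ≅
      FlatMod.freeMod (↑W) (CohIII.fiberRank f F p y)) := by
  haveI : Coh.IsQCoh F := ‹F.IsQuasicoherent›
  haveI : ((Coh.Rpush f p).obj F).IsQuasicoherent := Groth.Agent.S0030.result f F p
  obtain ⟨_, _, hd⟩ := hP.homology_projective _ _ (by omega) hp hq
  obtain ⟨s⟩ := Rep.nonempty_sections f F V e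
  obtain ⟨W, hW, hi⟩ := Sheaf.exists_free_nhd ((Coh.Rpush f p).obj F) V hy (P.homology (-(p : ℤ))) s
  have hr := LocalRep.fiberRank_eq f V F (pt V hy) e
  rw [k_pt] at hr
  rw [hr, ← hd]
  exact ⟨W, hW, hi⟩

/-- Local freeness where the two neighbouring fibre cohomologies vanish. -/
theorem isFinLocFree_restrict_of_adjacent (p : ℕ) (U : S.Opens)
    (hU : ∀ y ∈ U, CohIII.fiberRank f F (p + 1) y = 0 ∧
      (p = 0 ∨ CohIII.fiberRank f F (p - 1) y = 0)) :
    FlatMod.IsFinLocFree (((Coh.Rpush f p).obj F).restrict U.ι) := by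
  refine Sheaf.isFinLocFree_restrict _ U fun y hy => ?_
  obtain ⟨V, hV, hyV, hVU⟩ := exists_isAffineOpen_mem_and_subset (x := y) hy
  haveI : IsAffine (V : Scheme.{u}) := hV
  obtain ⟨P, hP, he, -, hz⟩ := exists_of_vanish f F hF hfl V
  obtain ⟨e⟩ := he p
  have hq : Module.Flat (Local.AV V) (Q P (-(p : ℤ) - 1)) := by
    have h := (hz (p + 1) fun z hz => (hU z (hVU hz)).1).2.1
    rwa [show -((p + 1 : ℕ) : ℤ) = -(p : ℤ) - 1 by push_cast; ring] at h
  have hp : Module.Flat (Local.AV V) (Q P (-(p : ℤ))) := by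
    rcases Nat.eq_zero_or_pos p with rfl | hpos
    · exact hP.flat_Q_nonneg _ (by simp)
    · have h := (hz (p - 1) fun z hz => ((hU z (hVU hz)).2.resolve_left (by omega))).2.2
      rwa [show -((p - 1 : ℕ) : ℤ) - 1 = -(p : ℤ) by omega] at h
  obtain ⟨W, hW, ⟨i⟩⟩ := exists_free_nhd f F p hP e hp hq hyV
  exact ⟨W, hW, TensorMod.LocFree.of_iso i.symm (TensorMod.LocFree.of_rank (TensorMod.LocFree.isFinLocFree_freeMod _ _))⟩

/-- Vanishing of the higher direct image when all fibre cohomology vanishes. -/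
theorem isZero_Rpush (p : ℕ) (h : ∀ y, CohIII.fiberRank f F p y = 0) :
    IsZero ((Coh.Rpush f p).obj F) := by
  haveI : Coh.IsQCoh F := ‹F.IsQuasicoherent›
  haveI : ((Coh.Rpush f p).obj F).IsQuasicoherent := Groth.Agent.S0030.result f F p
  refine Modules.AffineSections.isZero_of_sections fun y => ?_
  obtain ⟨V, hV, hyV, -⟩ := exists_isAffineOpen_mem_and_subset (U := ⊤) (x := y) trivial
  haveI : IsAffine (V : Scheme.{u}) := hV
  exact ⟨V.ι ''ᵁ ⊤, by rwa [V.ι_image_top], by rwa [V.ι_image_top],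
    Modules.AffineSections.subsingleton_sections
      (isZero_restrict f F hF hfl p V fun z _ => h z) ⊤⟩

/-- Local freeness when the two neighbouring fibre cohomologies vanish everywhere. -/
theorem isFinLocFree_Rpush (p : ℕ)
    (h : ∀ y, CohIII.fiberRank f F (p + 1) y = 0 ∧
      (p = 0 ∨ CohIII.fiberRank f F (p - 1) y = 0)) :
    FlatMod.IsFinLocFree ((Coh.Rpush f p).obj F) :=
  TensorMod.TensorInv.isFinLocFree_of_locally fun _ =>
    ⟨⊤, trivial, isFinLocFree_restrict_of_adjacent f F hF hfl p ⊤ fun z _ => h z⟩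

omit [IsProper f] [LocallyOfFinitePresentation f] [F.IsQuasicoherent] hF hfl in
/-- The zeroth higher direct image is the direct image. -/
theorem nonempty_zeroIso : Nonempty ((Coh.Rpush f 0).obj F ≅ (Coh.push f).obj F) := by
  haveI : (Scheme.Modules.pushforward f).IsRightAdjoint :=
    (Scheme.Modules.pullbackPushforwardAdjunction f).isRightAdjoint
  haveI : PreservesLimitsOfSize.{0, 0} (Scheme.Modules.pushforward f) :=
    (Scheme.Modules.pullbackPushforwardAdjunction f).rightAdjoint_preservesLimits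
  haveI : PreservesFiniteLimits (Scheme.Modules.pushforward f) :=
    PreservesLimitsOfSize.preservesFiniteLimits _
  exact ⟨(@asIso _ _ _ _ _
    (NatIso.isIso_app_of_isIso (Scheme.Modules.pushforward f).toRightDerivedZero F)).symm⟩

end Groth.Agent.Lib.ExchangeFP29.Main
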