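import Groth.Agent.Lib.ExchangeFP29.Main

/-!
# Fibre cohomology at field-valued points
-/

set_option autoImplicit false
set_option linter.style.haveILetI false
universe u

open CategoryTheory CategoryTheory.Limits AlgebraicGeometry TopologicalSpace
open Groth.Agent Groth.Agent.Lib Groth.Agent.Lib.FlatCx.Basic
open _root_.ZarCoh.Exchange

namespace Groth.Agent.Lib.ExchangeFP29.FieldPoint

/-- The point of an affine scheme under a field-valued point. -/
theorem comap_closedPoint {A : Type u} [CommRing A] {L : Type u} [Field L] (φ : A →+* L) :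
    (Spec.map (CommRingCat.ofHom φ)) (IsLocalRing.closedPoint L) =
      (⟨RingHom.ker φ, RingHom.ker_isPrime _⟩ : PrimeSpectrum A) := by
  refine PrimeSpectrum.ext ?_
  show Ideal.comap φ (IsLocalRing.maximalIdeal L) = RingHom.ker φ
  rw [IsLocalRing.maximalIdeal_eq_bot, RingHom.ker_eq_comap_bot]

variable {X S : Scheme.{u}} (f : X ⟶ S) (F : X.Modules)
  [IsProper f] [LocallyOfFinitePresentation f] [F.IsQuasicoherent]
  (hF : CohB1.IsFP F) (hfl : FlatMod.IsFlatOver f F)

include hF hfl

/-- The dimensions of the cohomology at a field-valued point are the fibre ranks at its image. -/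
theorem finrank_HH_eq {L : Type u} [Field L] {X' : Scheme.{u}} (q : X' ⟶ Spec (CommRingCat.of L))
    (σ : Spec (CommRingCat.of L) ⟶ S) (g' : X' ⟶ X) (hsq : IsPullback g' q f σ) (p : ℕ) :
    letI : X'.Over (Spec (CommRingCat.of L)) := ⟨q⟩
    Module.finrank L (Coh.HH X' ((Scheme.Modules.pullback g').obj F) p) =
      CohIII.fiberRank f F p (σ (IsLocalRing.closedPoint L)) := by
  let y := σ (IsLocalRing.closedPoint L)
  obtain ⟨V, hV, hyV, -⟩ := exists_isAffineOpen_mem_and_subset (U := ⊤) (x := y) trivial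
  haveI : IsAffine (V : Scheme.{u}) := hV
  obtain ⟨P, hP, hh⟩ := Rep.exists_local f F hF hfl V
  obtain ⟨⟨e⟩, hr⟩ := hh p
  have hrange : Set.range σ ⊆ Set.range (LocalRep.k V) := by
    rintro _ ⟨z, rfl⟩
    rw [Subsingleton.elim (α := PrimeSpectrum L) z (IsLocalRing.closedPoint L)]
    exact ⟨Main.pt V hyV, Main.k_pt V hyV⟩
  let σ' := IsOpenImmersion.lift (LocalRep.k V) σ hrange
  have hσ' : σ' ≫ LocalRep.k V = σ := IsOpenImmersion.lift_fac _ _ _
  let ψ : CommRingCat.of (Local.AV V) ⟶ CommRingCat.of L := Spec.preimage σ'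
  have hψ : Spec.map ψ = σ' := Spec.map_preimage σ'
  letI : Algebra (Local.AV V) L := ψ.hom.toAlgebra
  letI : X'.Over (Spec (CommRingCat.of L)) := ⟨q⟩
  have hR := LocalRep.isPullback_k f V
  let g'' : X' ⟶ Local.XV f V := hR.lift g' (q ≫ σ') (by rw [Category.assoc, hσ', hsq.w])
  have hg : g'' ≫ (f ⁻¹ᵁ V).ι = g' := hR.lift_fst _ _ _
  have hsq' : IsPullback g'' (X' ↘ Spec (CommRingCat.of L))
      (Local.XV f V ↘ Spec (CommRingCat.of (Local.AV V)))
      (Spec.map (CommRingCat.ofHom (algebraMap (Local.AV V) L))) := by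
    rw [show Spec.map (CommRingCat.ofHom (algebraMap (Local.AV V) L)) = σ' from hψ]
    refine IsPullback.of_right ?_ (hR.lift_snd _ _ _) hR
    rw [hg, hσ']
    exact hsq
  obtain ⟨E⟩ := Fibre.nonempty_linearEquiv hsq' (Local.MV f V F) e
  let i : (Scheme.Modules.pullback g'').obj (Local.MV f V F) ≅ (Scheme.Modules.pullback g').obj F :=
    (Scheme.Modules.pullback g'').mapIso
        ((Scheme.Modules.restrictFunctorIsoPullback (f ⁻¹ᵁ V).ι).app F) ≪≫
      (Scheme.Modules.pullbackComp g'' (f ⁻¹ᵁ V).ι).app F ≪≫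
      (Scheme.Modules.pullbackCongr hg).app F
  refine (((Curves.LES.isoK L i.symm p).trans E).finrank_eq).trans
    ((IntTheory.ChiConst.finrank_homology_field P (-(p : ℤ)) L).trans ?_)
  have hy : LocalRep.k V (⟨RingHom.ker (algebraMap (Local.AV V) L), RingHom.ker_isPrime _⟩ :
      PrimeSpectrum (Local.AV V)) = y := by
    rw [← comap_closedPoint]
    refine (congrArg (LocalRep.k V) (congrArg
      (fun m : Spec (CommRingCat.of L) ⟶ Spec (CommRingCat.of (Local.AV V)) =>
        m (IsLocalRing.closedPoint L)) hψ)).trans ?_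
    exact congrArg (fun m : Spec (CommRingCat.of L) ⟶ S => m (IsLocalRing.closedPoint L)) hσ'
  rw [← hr, hy]

/-- Fibre ranks are unchanged by base change. -/
theorem fiberRank_baseChange {X' T : Scheme.{u}} (g : T ⟶ S) (g' : X' ⟶ X) (f' : X' ⟶ T)
    (h : IsPullback g' f' f g) (p : ℕ) (t : T) :
    CohIII.fiberRank f' ((Scheme.Modules.pullback g').obj F) p t =
      CohIII.fiberRank f F p (g t) := by
  letI : (f'.fiber t).Over (Spec (CommRingCat.of (T.residueField t))) :=
    ⟨f'.fiberToSpecResidueField t⟩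
  have hsq : IsPullback (f'.fiberι t ≫ g') (f'.fiberToSpecResidueField t) f
      (T.fromSpecResidueField t ≫ g) :=
    (IsPullback.of_hasPullback f' (T.fromSpecResidueField t)).paste_horiz h
  refine ((Curves.LES.isoK (T.residueField t)
    ((Scheme.Modules.pullbackComp (f'.fiberι t) g').app F) p).finrank_eq).trans
    ((finrank_HH_eq f F hF hfl (L := T.residueField t) _ _ _ hsq p).trans ?_)
  exact congrArg (CohIII.fiberRank f F p) (congrArg g (Scheme.fromSpecResidueField_apply _ _))

end Groth.Agent.Lib.ExchangeFP29.FieldPoint
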