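import Groth.Agent.Lib.ExchangeFP29.Algebra
import Groth.Agent.H47.NoethModule
import Groth.Agent.H2.Rigid.SubDiagram
import Groth.Agent.Lib.Lim.Valuative
import Groth.Agent.Lib.Flat55.FlatOverAt
import Groth.Agent.Lib.Exchange.Proper
import Groth.Agent.Lib.Exchange.Grauert
import Groth.Agent.H47.FlatLimit

/-!
# The exchange complex for a proper morphism of finite presentation
-/

set_option autoImplicit false
set_option backward.isDefEq.respectTransparency false
set_option linter.style.haveILetI false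

universe u

open CategoryTheory CategoryTheory.Limits AlgebraicGeometry Opposite
open Groth.Agent Groth.Agent.Lib

namespace Groth.Agent.Lib.ExchangeFP29.Rep

/-- A finitely presented module, flat over an affine base of a proper morphism of finite presentation,
comes from a coherent flat module over a Noetherian base. -/
theorem exists_model {A : CommRingCat.{u}} {X : Scheme.{u}} (f : X ⟶ Spec A)
    [LocallyOfFinitePresentation f] [IsProper f]
    (F : X.Modules) [F.IsQuasicoherent] (hF : CohB1.IsFP F) (hflat : FlatMod.IsFlatOver f F) :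
    ∃ (A₀ : CommRingCat.{u}) (_ : IsNoetherianRing A₀) (b : Spec A ⟶ Spec A₀) (X₀ : Scheme.{u})
      (f₀ : X₀ ⟶ Spec A₀) (q : X ⟶ X₀) (F₀ : X₀.Modules),
      IsProper f₀ ∧ IsPullback q f f₀ b ∧ Coh.IsCoh F₀ ∧ FlatMod.IsFlatOver f₀ F₀ ∧
      Nonempty ((Scheme.Modules.pullback q).obj F₀ ≅ F) := by
  let D := H2.Rigid.SubDiagram.diagram A
  let c := H2.Rigid.SubDiagram.cone A
  have hc : IsLimit c := H2.Rigid.SubDiagram.isLimitCone A
  haveI : ∀ i, IsAffine (D.obj i) := fun i => inferInstance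
  haveI : ∀ (i j : (Finset A)ᵒᵖ) (g : i ⟶ j), IsAffineHom (D.map g) := fun i j g => inferInstance
  haveI : CompactSpace X := QuasiCompact.compactSpace_of_compactSpace f
  haveI : QuasiSeparatedSpace X := quasiSeparatedSpace_of_quasiSeparated f
  haveI : LocallyOfFiniteType f := inferInstance
  obtain ⟨-, hmodel⟩ := H47.NoethModule.exists_flat_model (D := D) (c := c) hc f F hF
  obtain ⟨i, X₁, f₁, _, _, F₁, hF₁, q₁, hsq₁, e₁, hflat₁⟩ := hmodel hflat
  haveI := hF₁.1
  haveI := hF₁.2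
  haveI : IsLocallyNoetherian X₁ := LocallyOfFiniteType.isLocallyNoetherian f₁
  haveI : CompactSpace X₁ := QuasiCompact.compactSpace_of_compactSpace f₁
  obtain ⟨j, φ, hj⟩ := Lim.Valuative.isProper_descends D c hc (fun _ _ g => inferInstance) i
    inferInstance inferInstance f₁ inferInstance inferInstance inferInstance f q₁ hsq₁
    inferInstance
  let X₂ := pullback f₁ (D.map φ)
  let f₂ : X₂ ⟶ D.obj j := pullback.snd f₁ (D.map φ)
  let p : X₂ ⟶ X₁ := pullback.fst f₁ (D.map φ)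
  have sq₂ : IsPullback p f₂ f₁ (D.map φ) := IsPullback.of_hasPullback f₁ (D.map φ)
  haveI : IsProper f₂ := hj
  let q₂ : X ⟶ X₂ := sq₂.lift q₁ (f ≫ c.π.app j) (by rw [Category.assoc, c.w, hsq₁.w])
  have hq : IsPullback q₂ f f₂ (c.π.app j) := by
    refine IsPullback.of_right ?_ (sq₂.lift_snd _ _ _) sq₂
    rw [sq₂.lift_fst, c.w]
    exact hsq₁
  let A₀ : CommRingCat.{u} := (H2.Rigid.SubDiagram.ringDiagram A).obj j.unop
  have hA₀ : IsNoetherianRing A₀ :=
    (isLocallyNoetherian_Spec (R := A₀)).1 (H2.Rigid.SubDiagram.isLocallyNoetherian_obj A j)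
  haveI : IsLocallyNoetherian X₂ := LocallyOfFiniteType.isLocallyNoetherian f₂
  have hcoh : Coh.IsCoh ((Scheme.Modules.pullback p).obj F₁) := Cyc.FP.Stalk.isCoh_pullback p hF₁
  exact ⟨A₀, hA₀, c.π.app j, X₂, f₂, q₂, (Scheme.Modules.pullback p).obj F₁, ‹_›, hq,
    hcoh, fun x => Flat55.FlatOverAt.isFlatOverAt_baseChange f₁ f₂ p (D.map φ) sq₂ F₁ x (hflat₁ _),
    ⟨(Scheme.Modules.pullbackComp q₂ p).app F₁ ≪≫
      (Scheme.Modules.pullbackCongr (sq₂.lift_fst _ _ _)).app F₁ ≪≫ e₁⟩⟩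

noncomputable section

/-- Tensoring with isomorphic modules. -/
def tensorCongr (A : Type u) [CommRing A] {X : Scheme.{u}} [X.Over (Spec (CommRingCat.of A))]
    {F F' : X.Modules} (i : F ≅ F') :
    CohIII.tensorAFunctor A F ≅ CohIII.tensorAFunctor A F' :=
  Functor.isoWhiskerLeft _ (Functor.isoWhiskerLeft _
    (Functor.isoWhiskerLeft DCoh.toP (Functor.isoWhiskerRight
      ((MonoidalCategory.tensoringRight (CohB1.PMod X)).mapIso (DCoh.toP.mapIso i)) DCoh.shP)))

variable (A : Type u) [CommRing A] {X : Scheme.{u}} [X.Over (Spec (CommRingCat.of A))]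
  [IsProper (X ↘ Spec (CommRingCat.of A))]
  [LocallyOfFinitePresentation (X ↘ Spec (CommRingCat.of A))]
  (F : X.Modules) [F.IsQuasicoherent]

/-- The exchange complex over an affine base. -/
theorem exists_rep (hF : CohB1.IsFP F)
    (hfl : FlatMod.IsFlatOver (X ↘ Spec (CommRingCat.of A)) F) :
    ∃ P : ChainComplex (ModuleCat.{u} A) ℤ, Algebra.IsGood P ∧
      ∀ p : ℕ, Nonempty (CohIII.TFun P (-(p : ℤ)) ⋙ forget₂ (ModuleCat.{u} A) AddCommGrpCat.{u} ≅
        CohIII.tensorAFunctor A F ⋙ CohIII.HAb X p) := by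
  obtain ⟨A₀, _, b, X₀, f₀, q, F₀, hp, hsq, hcoh, hfl₀, ⟨i⟩⟩ :=
    exists_model (A := CommRingCat.of A) (X ↘ Spec (CommRingCat.of A)) F hF hfl
  let φ : A₀ ⟶ CommRingCat.of A := Spec.preimage b
  letI : _root_.Algebra A₀ A := φ.hom.toAlgebra
  letI : X₀.Over (Spec (CommRingCat.of A₀)) := ⟨f₀⟩
  haveI : IsProper (X₀ ↘ Spec (CommRingCat.of A₀)) := hp
  haveI : F₀.IsQuasicoherent := hcoh.1
  obtain ⟨b₀, P₀, h1, h2, h3, h4, h5⟩ :=
    _root_.ZarCoh.Exchange.Proper.exists_rep A₀ F₀ hcoh hfl₀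
  have hsq' : IsPullback q (X ↘ Spec (CommRingCat.of A)) (X₀ ↘ Spec (CommRingCat.of A₀))
      (Spec.map (CommRingCat.ofHom (algebraMap A₀ A))) := by
    rw [show Spec.map (CommRingCat.ofHom (algebraMap A₀ A)) = b from Spec.map_preimage b]
    exact hsq
  let P := CohIII.bcCx (algebraMap A₀ A) P₀
  refine ⟨P, ⟨fun j => ?_, ⟨b₀, fun j hj => ?_⟩, fun j hj M => ?_⟩, fun p => ?_⟩
  · haveI := h2 j
    haveI := h3 j
    exact ⟨Module.Finite.equiv (FlatCx.BaseChange.Xequiv P₀ A j).symm,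
      Module.Projective.of_equiv (FlatCx.BaseChange.Xequiv P₀ A j).symm⟩
  · haveI := ModuleCat.subsingleton_of_isZero (h1 j hj)
    exact ModuleCat.isZero_iff_subsingleton.2
      (FlatCx.BaseChange.Xequiv P₀ A j).injective.subsingleton
  · have hz := h4 j hj (_root_.ZarCoh.Exchange.ExtScalars.res.obj M)
    haveI := ModuleCat.subsingleton_of_isZero hz
    let ε := (_root_.ZarCoh.Exchange.ExtScalars.iso
      (_root_.ZarCoh.Exchange.ExtScalars.isBCCx_bcCx A P₀) j).app M
    exact ModuleCat.isZero_iff_subsingleton.2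
      (@Function.Injective.subsingleton _ _ _ ε.addCommGroupIsoToAddEquiv.symm.injective this)
  · obtain ⟨e⟩ := h5 p
    obtain ⟨bc⟩ := _root_.ZarCoh.Exchange.BaseChange.nonempty_baseChange_iso hsq' F₀ p
    exact ⟨(_root_.ZarCoh.Exchange.ExtScalars.iso
        (_root_.ZarCoh.Exchange.ExtScalars.isBCCx_bcCx A P₀) (-(p : ℤ))).symm ≪≫
      Functor.isoWhiskerLeft (_root_.ZarCoh.Exchange.ExtScalars.res (A := A₀) (B := A)) e ≪≫
      bc.symm ≪≫ Functor.isoWhiskerRight (tensorCongr A i) _⟩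

end

section Local

open _root_.ZarCoh.Exchange

variable {X S : Scheme.{u}} (f : X ⟶ S) [IsProper f] [LocallyOfFinitePresentation f] (F : X.Modules)

/-- The exchange complex over an affine open of the base. -/
theorem exists_local (hF : CohB1.IsFP F) (hfl : FlatMod.IsFlatOver f F) [F.IsQuasicoherent]
    (V : S.Opens) [IsAffine (V : Scheme.{u})] :
    ∃ P : ChainComplex (ModuleCat.{u} (Local.AV V)) ℤ, Algebra.IsGood P ∧
      ∀ p : ℕ, Nonempty (CohIII.TFun P (-(p : ℤ)) ⋙
          forget₂ (ModuleCat.{u} (Local.AV V)) AddCommGrpCat.{u} ≅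
        CohIII.tensorAFunctor (Local.AV V) (Local.MV f V F) ⋙ CohIII.HAb (Local.XV f V) p) ∧
        ∀ x : PrimeSpectrum (Local.AV V),
          CohIII.fiberRank f F p (LocalRep.k V x) = CohIII.dRank P (-(p : ℤ)) x := by
  haveI : LocallyOfFinitePresentation (Local.XV f V ↘ Spec (CommRingCat.of (Local.AV V))) :=
    show LocallyOfFinitePresentation ((f ∣_ V) ≫ (V : Scheme.{u}).isoSpec.hom) from
      haveI : LocallyOfFinitePresentation (f ∣_ V) :=
        MorphismProperty.of_isPullback (isPullback_morphismRestrict f V).flip ‹_›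
      inferInstance
  haveI : (Local.MV f V F).IsQuasicoherent := inferInstance
  have hFV : CohB1.IsFP (Local.MV f V F) :=
    (SheafOfModules.isFinitePresentation (Local.XV f V).ringCatSheaf).prop_of_iso
      ((Scheme.Modules.restrictFunctorIsoPullback (f ⁻¹ᵁ V).ι).app F).symm
      (H47.FlatLimit.isFP_pullback (f ⁻¹ᵁ V).ι F hF)
  obtain ⟨P, hP, he⟩ := exists_rep (Local.AV V) (Local.MV f V F) hFV (Local.flat_over f V hfl)
  refine ⟨P, hP, fun p => ?_⟩
  obtain ⟨e⟩ := he p
  exact ⟨⟨e⟩, fun x => LocalRep.fiberRank_eq f V F x e⟩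

omit [LocallyOfFinitePresentation f] in
/-- The sections of the higher direct images over an affine open, through the exchange complex. -/
theorem nonempty_sections [HasInjectiveResolutions X.Modules] [F.IsQuasicoherent] (V : S.Opens)
    [IsAffine (V : Scheme.{u})] {P : ChainComplex (ModuleCat.{u} (Local.AV V)) ℤ} {p : ℕ}
    (e : CohIII.TFun P (-(p : ℤ)) ⋙
        forget₂ (ModuleCat.{u} (Local.AV V)) AddCommGrpCat.{u} ≅
      CohIII.tensorAFunctor (Local.AV V) (Local.MV f V F) ⋙ CohIII.HAb (Local.XV f V) p) :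
    Nonempty (Γ(((Coh.Rpush f p).obj F).restrict V.ι, ⊤) ≃ₗ[Local.AV V] P.homology (-(p : ℤ))) := by
  obtain ⟨s⟩ := LocalRep.nonempty_sections f V F p
  exact ⟨s.trans ((Curves.LES.isoK (Local.AV V) (Main.oneIso (Local.AV V) (Local.MV f V F)) p).symm.trans
    ((Main.linearEquivApp (Local.AV V) _ e (ModuleCat.of (Local.AV V) (Local.AV V))).symm.trans
      (Main.tOne (Local.AV V) P _)))⟩

end Local

end Groth.Agent.Lib.ExchangeFP29.Rep
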