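import Groth.Agent.Lib.Modules.GenStalk
import Groth.Agent.Lib.Modules.Free
import Groth.Agent.Lib.Flat55.FlatFunSheaf
import Groth.Prelude.Def_CohBC2
import Groth.Prelude.Def_Curv2
import Groth.Prelude.Def_ega3

/-!
# Surjectivity of the counit from the fibres
-/

set_option autoImplicit false
set_option linter.style.haveILetI false
universe u

open CategoryTheory CategoryTheory.Limits AlgebraicGeometry TopologicalSpace Opposite TensorProduct
open Groth.Agent.Lib Groth.Agent.Lib.Modules.StalkModule

namespace Groth.Agent.Lib.ExchangeFP29.CounitFibre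

/-- Surjectivity descends along a local homomorphism of local rings for a finite target. -/
theorem surjective_of_lTensor {R S M N : Type u} [CommRing R] [CommRing S] [IsLocalRing R]
    [IsLocalRing S] [Algebra R S] [IsLocalHom (algebraMap R S)] [AddCommGroup M] [Module R M]
    [AddCommGroup N] [Module R N] [Module.Finite R N] (u : M →ₗ[R] N)
    (h : Function.Surjective (u.lTensor S)) : Function.Surjective u := by
  let C := N ⧸ LinearMap.range u
  let k := IsLocalRing.ResidueField R
  let k' := IsLocalRing.ResidueField S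
  have hz : (LinearMap.range u).mkQ ∘ₗ u = 0 :=
    LinearMap.ext fun m => (Submodule.Quotient.mk_eq_zero _).2 ⟨m, rfl⟩
  have hC : Subsingleton (S ⊗[R] C) := by
    refine subsingleton_of_forall_eq 0 fun z => ?_
    obtain ⟨y, rfl⟩ := LinearMap.lTensor_surjective S (Submodule.mkQ_surjective (LinearMap.range u)) z
    obtain ⟨w, rfl⟩ := h y
    rw [← LinearMap.lTensor_comp_apply, hz, LinearMap.lTensor_zero, LinearMap.zero_apply]
  have hC0 : Subsingleton C := by
    by_contra hne
    rw [not_subsingleton_iff_nontrivial] at hne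
    haveI : Nontrivial (k ⊗[R] C) := by
      rw [← not_subsingleton_iff_nontrivial, IsLocalRing.subsingleton_tensorProduct]
      exact not_subsingleton C
    obtain ⟨v, hv⟩ := exists_ne (0 : k ⊗[R] C)
    obtain ⟨φ, hφ⟩ : ∃ φ : (k ⊗[R] C) →ₗ[k] k, φ v ≠ 0 :=
      Module.Projective.exists_dual_ne_zero k hv
    let ρ : k →+* k' := IsLocalRing.ResidueField.map (algebraMap R S)
    let ψ : C →ₗ[R] k' :=
      { toFun := fun c => ρ (φ (1 ⊗ₜ[R] c))
        map_add' := fun a b => by rw [TensorProduct.tmul_add, map_add, map_add]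
        map_smul' := fun r c => by
          rw [TensorProduct.tmul_smul, φ.map_smul_of_tower, Algebra.smul_def, map_mul,
            Algebra.smul_def]
          rfl }
    let Ψ : S ⊗[R] C →ₗ[S] k' := ψ.liftBaseChange S
    obtain ⟨c, hc⟩ : ∃ c : C, φ (1 ⊗ₜ[R] c) ≠ 0 := by
      by_contra hall
      push Not at hall
      refine hφ ?_
      induction v using TensorProduct.induction_on with
      | zero => exact map_zero φ
      | tmul a c =>
        have e : a ⊗ₜ[R] c = a • ((1 : k) ⊗ₜ[R] c) := by rw [smul_tmul', smul_eq_mul, mul_one]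
        rw [e, map_smul, hall, smul_zero]
      | add a b ha hb =>
        have : ∀ z, φ z = 0 := fun z => by
          induction z using TensorProduct.induction_on with
          | zero => exact map_zero φ
          | tmul a c =>
            have e : a ⊗ₜ[R] c = a • ((1 : k) ⊗ₜ[R] c) := by rw [smul_tmul', smul_eq_mul, mul_one]
            rw [e, map_smul, hall, smul_zero]
          | add a b ha hb => rw [map_add, ha, hb, add_zero]
        exact this _
    have h1 : Ψ ((1 : S) ⊗ₜ[R] c) = 0 := by rw [Subsingleton.elim ((1 : S) ⊗ₜ[R] c) 0, map_zero]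
    rw [LinearMap.liftBaseChange_tmul, one_smul] at h1
    exact hc (ρ.injective (h1.trans (map_zero ρ).symm))
  intro n
  exact (Submodule.Quotient.mk_eq_zero _).1 (Subsingleton.elim (Submodule.Quotient.mk n : C) 0)

/-- A map to a module of finite type is surjective if its pullbacks hit every point surjectively. -/
theorem epi_of_pullback {X : Scheme.{u}} {F G : X.Modules}
    [SheafOfModules.IsFiniteType (R := X.ringCatSheaf) G] (w : F ⟶ G)
    (h : ∀ x : X, ∃ (X' : Scheme.{u}) (a : X' ⟶ X) (x' : X'), a x' = x ∧
      Epi ((Scheme.Modules.pullback a).map w)) : Epi w := by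
  refine (epi_iff_stalkMapₗ_surjective _).2 fun x => ?_
  obtain ⟨X', a, x', rfl, he⟩ := h x
  let _ := (a.stalkMap x').hom.toAlgebra
  haveI : IsLocalHom (algebraMap (X.presheaf.stalk (a x')) (X'.presheaf.stalk x')) :=
    inferInstanceAs (IsLocalHom (a.stalkMap x').hom)
  haveI := Modules.GenStalk.finite_stalk G (a x')
  obtain ⟨eF, eG, hF, hG, hu⟩ := Flat55.FlatFunSheaf.exists_stalk_pullback_map a w x'
  have hs := (epi_iff_stalkMapₗ_surjective _).1 he x'
  refine surjective_of_lTensor (S := X'.presheaf.stalk x') _ fun y => ?_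
  obtain ⟨v, hv⟩ := hs (eG y)
  obtain ⟨z, rfl⟩ := hF.2 v
  rw [hu] at hv
  exact ⟨z, hG.1 hv⟩

/-- A map out of a globally generated module vanishing on global sections is zero. -/
theorem eq_zero_of_gg {X : Scheme.{u}} {M N : X.Modules} (hM : Curv2.IsGloballyGenerated M)
    (φ : M ⟶ N) (h : ∀ t, φ.app ⊤ t = 0) : φ = 0 := by
  obtain ⟨ι, p, hp⟩ := hM
  haveI := hp
  refine (cancel_epi p).1 ?_
  refine Sigma.hom_ext (f := fun _ : ι => Coh.structureModule X) _ _ fun i =>
    Modules.Free.unitHom_ext ?_
  refine (h _).trans ?_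
  rfl

variable {X S : Scheme.{u}} (f : X ⟶ S) (G : X.Modules)

/-- On a base change, the pulled back counit is an epimorphism. -/
theorem epi_pullback_counit {X' S' : Scheme.{u}} (q : X' ⟶ S') (ι : X' ⟶ X) (σ : S' ⟶ S)
    (w : ι ≫ f = q ≫ σ) (hbc : Epi (CohBC.bc0 f σ q ι w G))
    (hgg : Curv2.IsGloballyGenerated ((Scheme.Modules.pullback ι).obj G)) :
    Epi ((Scheme.Modules.pullback ι).map
      ((Scheme.Modules.pullbackPushforwardAdjunction f).counit.app G)) := by
  let adjι := Scheme.Modules.pullbackPushforwardAdjunction ι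
  let adjf := Scheme.Modules.pullbackPushforwardAdjunction f
  let adjσ := Scheme.Modules.pullbackPushforwardAdjunction σ
  haveI := hbc
  refine Preadditive.epi_of_cancel_zero _ fun {Z} π hπ => ?_
  have h1 : adjf.counit.app G ≫ adjι.unit.app G ≫ (Scheme.Modules.pushforward ι).map π = 0 := by
    have := congrArg (adjι.homEquiv _ _) hπ
    rw [Adjunction.homEquiv_naturality_left, Adjunction.homEquiv_unit] at this
    exact this.trans (by rw [Adjunction.homEquiv_unit, Functor.map_zero, comp_zero])
  have h2 : (Scheme.Modules.pushforward f).map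
      (adjι.unit.app G ≫ (Scheme.Modules.pushforward ι).map π) = 0 := by
    have h3 := congrArg (fun k => adjf.unit.app ((Scheme.Modules.pushforward f).obj G) ≫
      (Scheme.Modules.pushforward f).map k) h1
    simp only [Functor.map_zero, comp_zero] at h3
    rwa [Functor.map_comp, adjf.right_triangle_components_assoc] at h3
  have h4 : CohBC.bc0Adj f σ q ι w G ≫
      (Scheme.Modules.pushforward σ).map ((Scheme.Modules.pushforward q).map π) = 0 := by
    unfold CohBC.bc0Adj
    simp only [Category.assoc]
    rw [Functor.map_comp] at h2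
    erw [← (Scheme.Modules.pushforwardComp q σ).inv.naturality π]
    erw [← (Scheme.Modules.pushforwardCongr w).hom.naturality_assoc π]
    erw [← (Scheme.Modules.pushforwardComp ι f).hom.naturality_assoc π]
    erw [reassoc_of% h2]
    simp
  have h5 : CohBC.bc0 f σ q ι w G ≫ (Scheme.Modules.pushforward q).map π = 0 := by
    apply (adjσ.homEquiv _ _).injective
    rw [Adjunction.homEquiv_naturality_right, CohBC.bc0, Equiv.apply_symm_apply]
    rw [Adjunction.homEquiv_unit, Functor.map_zero, comp_zero]
    exact h4
  have h6 : (Scheme.Modules.pushforward q).map π = 0 := by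
    rw [← cancel_epi (CohBC.bc0 f σ q ι w G), h5, comp_zero]
  refine eq_zero_of_gg hgg π fun t => ?_
  exact congr(($h6).app ⊤ t)

/-- The counit is an epimorphism when every point lies on a base change on which base change is
surjective and which is globally generated. -/
theorem epi_counit [SheafOfModules.IsFiniteType (R := X.ringCatSheaf) G]
    (h : ∀ x : X, ∃ (X' S' : Scheme.{u}) (q : X' ⟶ S') (ι : X' ⟶ X) (σ : S' ⟶ S)
      (w : ι ≫ f = q ≫ σ) (x' : X'), ι x' = x ∧ Epi (CohBC.bc0 f σ q ι w G) ∧
        Curv2.IsGloballyGenerated ((Scheme.Modules.pullback ι).obj G)) :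
    Epi ((Scheme.Modules.pullbackPushforwardAdjunction f).counit.app G) := by
  refine epi_of_pullback (G := G) _ fun x => ?_
  obtain ⟨X', S', q, ι, σ, w, z, hz, hbc, hgg⟩ := h x
  exact ⟨X', ι, z, hz, epi_pullback_counit f G q ι σ w hbc hgg⟩

end Groth.Agent.Lib.ExchangeFP29.CounitFibre
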