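import Groth.Agent.Lib.ExchangeFP29.BC0
import Groth.Agent.Lib.Exchange.Local
import Groth.Agent.Lib.CohDelta.BC.Affine
import Groth.Agent.Lib.CohDelta.BC.Transpose
import Groth.Agent.Lib.CechRes.Flat
import Groth.Agent.H47.FlatKernelScheme

/-!
# The degree-zero base change map when `M ↦ H⁰(X_V, F ⊗ M)` is right exact
-/

set_option autoImplicit false
set_option linter.style.haveILetI false
set_option maxHeartbeats 1000000
universe u

open CategoryTheory CategoryTheory.Limits AlgebraicGeometry AlgebraicGeometry.Scheme.Modules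
open TopologicalSpace Opposite
open scoped TensorProduct
open Groth.Agent.Lib Groth.Agent.Lib.CohDelta
open _root_.ZarCoh.Exchange _root_.ZarCoh.FlatBC

namespace Groth.Agent.Lib.ExchangeFP29.BC0Glob

noncomputable section

section Pon

/-- Pulled back sections of a restricted section. -/
theorem pbRes_map {Y Y' : Scheme.{u}} (j : Y' ⟶ Y) (N : Y.Modules) {W O : Y.Opens} {O' : Y'.Opens}
    (eO : O ≤ W) (e' : O' ≤ j ⁻¹ᵁ O) (eb : O' ≤ j ⁻¹ᵁ W) (x : Γ(N, W)) :
    PullbackSections.pbRes j N e' (N.presheaf.map (homOfLE eO).op x) =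
      ((Scheme.Modules.pullback j).obj N).presheaf.map (homOfLE eb).op (Units.eta j N W x) :=
  (congrArg (((Scheme.Modules.pullback j).obj N).presheaf.map (homOfLE e').op)
    (((Scheme.Modules.pullbackPushforwardAdjunction j).unit.app N).mapPresheaf.naturality_apply
      (homOfLE eO).op x)).trans
    (Units.map_map ((Scheme.Modules.pullback j).obj N).presheaf
      (homOfLE (j.preimage_mono eO)).op (homOfLE e').op (homOfLE eb).op (Units.eta j N W x))

variable {X X' : Scheme.{u}} (g' : X' ⟶ X) {U : X.Opens} {U' : X'.Opens} (hU : U' ≤ g' ⁻¹ᵁ U)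

theorem image_le (W : X.Opens) :
    U'.ι ''ᵁ ((BC.Beta.jj g' hU) ⁻¹ᵁ (U.ι ⁻¹ᵁ W)) ≤ g' ⁻¹ᵁ W := by
  rw [← Scheme.Hom.comp_preimage, Scheme.Hom.resLE_comp_ι, Scheme.Hom.comp_preimage]
  exact U'.ι.image_preimage_le _

/-- Restriction of pulled back sections through the comparison. -/
theorem pon_map (F : X.Modules) (W : X.Opens) {O' : (U' : Scheme.{u}).Opens}
    (eb : O' ≤ (BC.Beta.jj g' hU) ⁻¹ᵁ (U.ι ⁻¹ᵁ W)) (hO' : U'.ι ''ᵁ O' ≤ g' ⁻¹ᵁ W) (s : Γ(F, W)) :
    ((Units.pon g' (BC.Beta.jj g' hU) (Scheme.Hom.resLE_comp_ι g' hU)).app F).app O'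
        (((Scheme.Modules.pullback (BC.Beta.jj g' hU)).obj (F.restrict U.ι)).presheaf.map
          (homOfLE eb).op (Units.eta (BC.Beta.jj g' hU) (F.restrict U.ι) (U.ι ⁻¹ᵁ W)
            (F.presheaf.map (homOfLE (U.ι.image_preimage_le W)).op s))) =
      ((Scheme.Modules.pullback g').obj F).presheaf.map (homOfLE hO').op (Units.eta g' F W s) := by
  refine ((((Units.pon g' (BC.Beta.jj g' hU) (Scheme.Hom.resLE_comp_ι g' hU)).app F)).mapPresheaf.naturality_apply
    (homOfLE eb).op _).trans ?_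
  refine (congrArg _ (Units.pon_eta g' (BC.Beta.jj g' hU) (Scheme.Hom.resLE_comp_ι g' hU) F W s
    (image_le g' hU W))).trans ?_
  exact Units.map_map ((Scheme.Modules.pullback g').obj F).presheaf (homOfLE (image_le g' hU W)).op
    (U'.ι.opensFunctor.map (homOfLE eb)).op (homOfLE hO').op (Units.eta g' F W s)

/-- Pulled back sections of a restriction are restrictions of pulled back sections. -/
theorem pon_pbRes (F : X.Modules) {W : X.Opens} {W' : X'.Opens} {O : (U : Scheme.{u}).Opens}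
    {O' : (U' : Scheme.{u}).Opens} (eO : O ≤ U.ι ⁻¹ᵁ W) (e' : O' ≤ (BC.Beta.jj g' hU) ⁻¹ᵁ O)
    (eW : W' ≤ g' ⁻¹ᵁ W) (hO : U.ι ''ᵁ O ≤ W) (hO' : U'.ι ''ᵁ O' ≤ W') (s : Γ(F, W)) :
    ((Units.pon g' (BC.Beta.jj g' hU) (Scheme.Hom.resLE_comp_ι g' hU)).app F).app O'
        (PullbackSections.pbRes (BC.Beta.jj g' hU) (F.restrict U.ι) e'
          (show Γ(F.restrict U.ι, O) from F.presheaf.map (homOfLE hO).op s)) =
      (show Γ(((Scheme.Modules.pullback g').obj F).restrict U'.ι, O') from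
        ((Scheme.Modules.pullback g').obj F).presheaf.map (homOfLE hO').op
          (PullbackSections.pbRes g' F eW s)) := by
  have hx : (F.restrict U.ι).presheaf.map (homOfLE eO).op
      (F.presheaf.map (homOfLE (U.ι.image_preimage_le W)).op s) =
      F.presheaf.map (homOfLE hO).op s :=
    Units.map_map F.presheaf (homOfLE (U.ι.image_preimage_le W)).op
      (U.ι.opensFunctor.map (homOfLE eO)).op (homOfLE hO).op s
  refine (congrArg _ ((congrArg (PullbackSections.pbRes (BC.Beta.jj g' hU) (F.restrict U.ι) e')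
    hx.symm).trans (pbRes_map (BC.Beta.jj g' hU) (F.restrict U.ι) eO e'
      (e'.trans ((BC.Beta.jj g' hU).preimage_mono eO)) _))).trans ?_
  refine (pon_map g' hU F W _ (hO'.trans eW) s).trans ?_
  exact (Units.map_map ((Scheme.Modules.pullback g').obj F).presheaf (homOfLE eW).op
    (homOfLE hO').op (homOfLE (hO'.trans eW)).op (Units.eta g' F W s)).symm

end Pon

section Sections

variable {X S : Scheme.{u}} (f : X ⟶ S) (V : S.Opens) [IsAffine (V : Scheme.{u})] (M : X.Modules)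

/-- The image of the preimage of an open subscheme. -/
theorem image_top_eq :
    (f ⁻¹ᵁ V).ι ''ᵁ (⊤ : (Local.XV f V).Opens) = f ⁻¹ᵁ (V.ι ''ᵁ ⊤) :=
  image_morphismRestrict_preimage f V ⊤

/-- Sections of the direct image as global sections over the preimage. -/
def toXV : Γ((Scheme.Modules.pushforward f).obj M, V.ι ''ᵁ ⊤) →+
    ((CechRes.Sec.secA (Local.XV f V ↘ Spec (CommRingCat.of (Local.AV V))) ⊤).obj
      (Local.MV f V M) : Type u) :=
  AddMonoidHom.mk' (fun s => CechRes.Sec.toSec _ (M := Local.MV f V M)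
      (show Γ(Local.MV f V M, ⊤) from M.presheaf.map (eqToHom (image_top_eq f V)).op s))
    fun s t => map_add (M.presheaf.map (eqToHom (image_top_eq f V)).op).hom s t

theorem toXV_bijective : Function.Bijective (toXV f V M) :=
  ConcreteCategory.bijective_of_isIso (M.presheaf.map (eqToHom (image_top_eq f V)).op)

theorem toXV_smul (r : Local.AV V) (s : Γ((Scheme.Modules.pushforward f).obj M, V.ι ''ᵁ ⊤)) :
    toXV f V M ((show Γ(S, V.ι ''ᵁ ⊤) from r) • s) = r • toXV f V M s := by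
  let pV := (Local.XV f V ↘ Spec (CommRingCat.of (Local.AV V)))
  let e := image_top_eq f V
  refine (M.map_smul (eqToHom e) _ s).trans ?_
  refine congrArg (fun k : Γ(X, (f ⁻¹ᵁ V).ι ''ᵁ ⊤) => k • (show Γ(M, (f ⁻¹ᵁ V).ι ''ᵁ ⊤) from
    M.presheaf.map (eqToHom e).op s)) ?_
  have hr : CechRes.Sec.rho pV ⊤ r = Glue.pb (f ∣_ V) r := by
    rw [← Local.toGlobal_toSpec]
    show pV.appLE ⊤ ⊤ le_top _ = pV.app ⊤ _
    rw [Scheme.Hom.app_eq_appLE]
    rfl
  show X.presheaf.map (eqToHom e).op (f.app (V.ι ''ᵁ ⊤) r) =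
    ((f ⁻¹ᵁ V).ι.appIso ⊤).inv (CechRes.Sec.rho pV ⊤ r)
  rw [hr, Scheme.Opens.ι_appIso]
  have key : f.app (V.ι ''ᵁ ⊤) ≫ X.presheaf.map (eqToHom e).op = (f ∣_ V).app ⊤ := by
    rw [morphismRestrict_app', Scheme.Hom.app_eq_appLE, Scheme.Hom.appLE_map]
    rfl
  exact ConcreteCategory.congr_hom key r

omit M in
/-- The preimage of an affine open is separated over it. -/
theorem isSeparated_XV [IsSeparated f] :
    IsSeparated (Local.XV f V ↘ Spec (CommRingCat.of (Local.AV V))) := by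
  show IsSeparated ((f ∣_ V) ≫ (V : Scheme.{u}).isoSpec.hom)
  haveI : IsSeparated (f ∣_ V) :=
    MorphismProperty.of_isPullback (isPullback_morphismRestrict f V).flip ‹IsSeparated f›
  infer_instance

end Sections

section Chart

variable {X S X' T : Scheme.{u}} (f : X ⟶ S) (g : T ⟶ S) (g' : X' ⟶ X) (f' : X' ⟶ T)
  (h : IsPullback g' f' f g) (F : X.Modules) [F.IsQuasicoherent]
  (V : S.Opens) [IsAffine (V : Scheme.{u})] (V' : T.Opens) [IsAffine (V' : Scheme.{u})]
  (e : V'.ι ''ᵁ ⊤ ≤ g ⁻¹ᵁ (V.ι ''ᵁ ⊤))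

include h in
/-- The base change map on a chart is the base change of global sections. -/
theorem chart_spec [QuasiCompact f] [IsSeparated f] :
    letI : Algebra (Local.AV V) (Local.AV V') :=
      (g.appLE (V.ι ''ᵁ ⊤) (V'.ι ''ᵁ ⊤) e).hom.toAlgebra
    ∃ hsq : IsPullback (BC.Beta.jj g' (BC.Main.le_preimage f g f' g' h.w V V' e))
        (Local.XV f' V' ↘ Spec (CommRingCat.of (Local.AV V')))
        (Local.XV f V ↘ Spec (CommRingCat.of (Local.AV V)))
        (Spec.map (CommRingCat.ofHom (algebraMap (Local.AV V) (Local.AV V')))),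
      (Function.Bijective (fun z ↦ (CohBC.bc0 f g f' g' h.w F).app (V'.ι ''ᵁ ⊤)
          (PullbackSections.pbTensor g ((Scheme.Modules.pushforward f).obj F) e z)) ↔
        Function.Bijective (BC0.gammaMap hsq (Local.MV f V F))) ∧
      (Function.Surjective (fun z ↦ (CohBC.bc0 f g f' g' h.w F).app (V'.ι ''ᵁ ⊤)
          (PullbackSections.pbTensor g ((Scheme.Modules.pushforward f).obj F) e z)) ↔
        Function.Surjective (BC0.gammaMap hsq (Local.MV f V F))) := by
  let A := Γ(S, V.ι ''ᵁ ⊤)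
  letI : Algebra (Local.AV V) (Local.AV V') := (g.appLE (V.ι ''ᵁ ⊤) (V'.ι ''ᵁ ⊤) e).hom.toAlgebra
  let hU := BC.Main.le_preimage f g f' g' h.w V V' e
  let jX := BC.Beta.jj g' hU
  have hsq : IsPullback jX (Local.XV f' V' ↘ Spec (CommRingCat.of (Local.AV V')))
      (Local.XV f V ↘ Spec (CommRingCat.of (Local.AV V)))
      (Spec.map (CommRingCat.ofHom (algebraMap (Local.AV V) (Local.AV V')))) := by
    have h1 := (BC.Affine.isPullback_restrict f g f' g' h e).paste_vert
      (IsPullback.of_vert_isIso ⟨(Scheme.isoSpec_hom_naturality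
        (g.resLE V V' (BC.Affine.hle g e))).symm⟩)
    rw [BC.Affine.appTop_resLE g e] at h1
    exact h1
  refine ⟨hsq, ?_⟩
  let pV := (Local.XV f V ↘ Spec (CommRingCat.of (Local.AV V)))
  let pV' := (Local.XV f' V' ↘ Spec (CommRingCat.of (Local.AV V')))
  let M₀ := Local.MV f V F
  let ω := (Units.pon g' jX (Scheme.Hom.resLE_comp_ι g' hU)).app F
  haveI : IsIso ω := BC.Main.isIso_pon g' hU F
  let G := (Scheme.Modules.pullback g').obj F
  let ωA := (CechRes.Sec.secA pV' ⊤).map ω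
  have hω : Function.Bijective ωA := ConcreteCategory.bijective_of_isIso ωA
  let τ := toXV f V F
  let τ' := toXV f' V' G
  letI : Module (Local.AV V) Γ((Scheme.Modules.pushforward f).obj F, V.ι ''ᵁ ⊤) :=
    inferInstanceAs (Module A Γ((Scheme.Modules.pushforward f).obj F, V.ι ''ᵁ ⊤))
  let φ : Γ((Scheme.Modules.pushforward f).obj F, V.ι ''ᵁ ⊤) ≃ₗ[Local.AV V]
      ((CechRes.Sec.secA pV ⊤).obj M₀ : Type u) :=
    { AddEquiv.ofBijective τ (toXV_bijective f V F) with map_smul' := toXV_smul f V F }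
  let L := φ.lTensor (Local.AV V')
  let Ψ : Local.AV V' ⊗[Local.AV V] Γ((Scheme.Modules.pushforward f).obj F, V.ι ''ᵁ ⊤) →+
      ((CechRes.Sec.secA pV' ⊤).obj (Local.MV f' V' G) : Type u) :=
    ωA.hom.toAddMonoidHom.comp ((BC0.gammaMap hsq M₀).comp L.toLinearMap.toAddMonoidHom)
  let P := (Scheme.Modules.pushforward f).obj F
  let Λ : Local.AV V' ⊗[Local.AV V] Γ(P, V.ι ''ᵁ ⊤) →+
      ((CechRes.Sec.secA pV' ⊤).obj (Local.MV f' V' G) : Type u) :=
    τ'.comp (((CohBC.bc0 f g f' g' h.w F).app (V'.ι ''ᵁ ⊤)).hom.comp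
      (PullbackSections.pbTensor g P e).toAddMonoidHom)
  suffices hk : ∀ z, Λ z = Ψ z by
    have hfun : τ' ∘ (fun z ↦ (CohBC.bc0 f g f' g' h.w F).app (V'.ι ''ᵁ ⊤)
        (PullbackSections.pbTensor g P e z)) = ωA ∘ BC0.gammaMap hsq M₀ ∘ L := funext hk
    refine ⟨?_, ?_⟩
    · refine (Function.Bijective.of_comp_iff' (toXV_bijective f' V' G) _).symm.trans ?_
      refine (Iff.of_eq (congrArg Function.Bijective hfun)).trans ?_
      exact (Function.Bijective.of_comp_iff' hω _).trans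
        (Function.Bijective.of_comp_iff _ L.bijective)
    · constructor
      · intro hs
        have h1 : Function.Surjective (ωA ∘ BC0.gammaMap hsq M₀ ∘ L) :=
          hfun ▸ (toXV_bijective f' V' G).2.comp hs
        intro y
        obtain ⟨z, hz⟩ := h1 (ωA y)
        exact ⟨L z, hω.1 hz⟩
      · intro hs
        have h1 : Function.Surjective (ωA ∘ BC0.gammaMap hsq M₀ ∘ L) :=
          hω.2.comp (hs.comp L.surjective)
        rw [← hfun] at h1
        intro y
        obtain ⟨z, hz⟩ := h1 (τ' y)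
        exact ⟨z, (toXV_bijective f' V' G).1 hz⟩
  intro z
  induction z using TensorProduct.induction_on with
  | zero => rw [map_zero, map_zero]
  | tmul s m =>
    refine (congrArg (fun k => τ' ((CohBC.bc0 f g f' g' h.w F).app (V'.ι ''ᵁ ⊤) k))
      (PullbackSections.pbTensor_tmul g P e s m)).trans ?_
    refine (congrArg τ' ((CohBC.bc0 f g f' g' h.w F).app_smul _ _)).trans ?_
    refine (toXV_smul f' V' G s _).trans ?_
    refine Eq.trans ?_ (congrArg ωA (BC0.gammaMap_tmul hsq M₀ s (φ m))).symm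
    refine Eq.trans ?_ (ωA.hom.map_smul _ _).symm
    refine congrArg ((show Local.AV V' from s) • ·) ?_
    refine (congrArg τ' (BC.Transpose.transpose_pbRes g (CohBC.bc0Adj f g f' g' h.w F) e m)).trans ?_
    have eW : f' ⁻¹ᵁ (V'.ι ''ᵁ ⊤) ≤ g' ⁻¹ᵁ (f ⁻¹ᵁ (V.ι ''ᵁ ⊤)) :=
      (f'.preimage_mono e).trans (le_of_eq (by rw [← Scheme.Hom.comp_preimage, ← h.w, Scheme.Hom.comp_preimage]))
    have hval : ((Scheme.Modules.pushforward f').obj G).presheaf.map (homOfLE e).op
        ((CohBC.bc0Adj f g f' g' h.w F).app (V.ι ''ᵁ ⊤) m) =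
      PullbackSections.pbRes g' F eW (show Γ(F, f ⁻¹ᵁ (V.ι ''ᵁ ⊤)) from m) := by
      unfold CohBC.bc0Adj
      simp only [Scheme.Modules.Hom.comp_app, ConcreteCategory.comp_apply,
        Scheme.Modules.pushforwardComp_hom_app_app, Scheme.Modules.pushforwardComp_inv_app_app,
        Scheme.Modules.pushforwardCongr_hom_app_app]
      exact Units.map_map G.presheaf _ _ (homOfLE eW).op _
    refine (congrArg τ' hval).trans ?_
    exact (pon_pbRes g' hU F (W := f ⁻¹ᵁ (V.ι ''ᵁ ⊤)) (W' := f' ⁻¹ᵁ (V'.ι ''ᵁ ⊤)) (O := ⊤) (O' := ⊤)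
      (le_of_eq ((f ⁻¹ᵁ V).ι.preimage_image_eq ⊤).symm |>.trans
        ((f ⁻¹ᵁ V).ι.preimage_mono (image_top_eq f V).le))
      le_rfl eW (image_top_eq f V).le (image_top_eq f' V').le m).symm
  | add a b ha hb => rw [map_add, map_add, ha, hb]

include h in
/-- The base change map is bijective on a chart over which `H⁰` is right exact. -/
theorem bijective_chart [QuasiCompact f] [IsSeparated f] (hfl : FlatMod.IsFlatOver f F)
    (hex : (CohIII.tensorAFunctor (Local.AV V) (Local.MV f V F) ⋙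
      CohIII.HAb (Local.XV f V) 0).PreservesEpimorphisms) :
    Function.Bijective fun z ↦ (CohBC.bc0 f g f' g' h.w F).app (V'.ι ''ᵁ ⊤)
      (PullbackSections.pbTensor g ((Scheme.Modules.pushforward f).obj F) e z) := by
  letI : Algebra (Local.AV V) (Local.AV V') := (g.appLE (V.ι ''ᵁ ⊤) (V'.ι ''ᵁ ⊤) e).hom.toAlgebra
  obtain ⟨hsq, hb, -⟩ := chart_spec f g g' f' h F V V' e
  haveI : IsSeparated (Local.XV f V ↘ Spec (CommRingCat.of (Local.AV V))) := isSeparated_XV f V
  exact hb.2 (BC0.bijective_gammaMap hsq (Local.MV f V F) (fun W hW =>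
    CechRes.Flat.secFlat_of_isFlatOver _ _ (Local.flat_over f V hfl) W hW) hex)

include h in
/-- Surjectivity of the base change map on a chart is spanning of `H⁰`. -/
theorem surjective_chart_iff [QuasiCompact f] [IsSeparated f] (hfl : FlatMod.IsFlatOver f F) :
    letI : Algebra (Local.AV V) (Local.AV V') :=
      (g.appLE (V.ι ''ᵁ ⊤) (V'.ι ''ᵁ ⊤) e).hom.toAlgebra
    Function.Surjective ((CohBC.bc0 f g f' g' h.w F).app (V'.ι ''ᵁ ⊤)) ↔
      SpanFibre.Span (CohIII.tensorAFunctor (Local.AV V) (Local.MV f V F) ⋙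
        CohIII.HAb (Local.XV f V) 0) (ModuleCat.of (Local.AV V) (Local.AV V')) := by
  letI : Algebra (Local.AV V) (Local.AV V') := (g.appLE (V.ι ''ᵁ ⊤) (V'.ι ''ᵁ ⊤) e).hom.toAlgebra
  obtain ⟨hsq, -, hs⟩ := chart_spec f g g' f' h F V V' e
  haveI : IsSeparated (Local.XV f V ↘ Spec (CommRingCat.of (Local.AV V))) := isSeparated_XV f V
  haveI : Coh.IsQCoh F := ‹F.IsQuasicoherent›
  haveI : ((Scheme.Modules.pushforward f).obj F).IsQuasicoherent :=
    QCoh.Pushforward.isQCoh_pushforward f (M := F)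
  refine Iff.trans ?_ (hs.trans (BC0.surjective_gammaMap_iff hsq (Local.MV f V F) (fun W hW =>
    CechRes.Flat.secFlat_of_isFlatOver _ _ (Local.flat_over f V hfl) W hW)))
  have hb := PullbackSections.bijective_pbTensor g ((Scheme.Modules.pushforward f).obj F)
    ((isAffineOpen_top (V : Scheme.{u})).image_of_isOpenImmersion V.ι)
    ((isAffineOpen_top (V' : Scheme.{u})).image_of_isOpenImmersion V'.ι) e
  exact ⟨fun hh => hh.comp hb.2, fun hh => hh.of_comp⟩

end Chart

section Global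

variable {X S X' T : Scheme.{u}} (f : X ⟶ S) (g : T ⟶ S) (g' : X' ⟶ X) (f' : X' ⟶ T)
  (h : IsPullback g' f' f g) (F : X.Modules) [F.IsQuasicoherent] [QuasiCompact f] [IsSeparated f]

/-- The base change map in degree zero is an isomorphism when `H⁰` is right exact near the image. -/
theorem isIso_bc0 (hfl : FlatMod.IsFlatOver f F)
    (hex : ∀ t : T, ∃ (V : S.Opens) (_ : IsAffine (V : Scheme.{u})), g t ∈ V ∧
      (CohIII.tensorAFunctor (Local.AV V) (Local.MV f V F) ⋙
        CohIII.HAb (Local.XV f V) 0).PreservesEpimorphisms) :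
    IsIso (CohBC.bc0 f g f' g' h.w F) := by
  haveI : Coh.IsQCoh F := ‹F.IsQuasicoherent›
  haveI : ((Scheme.Modules.pushforward f).obj F).IsQuasicoherent :=
    QCoh.Pushforward.isQCoh_pushforward f (M := F)
  refine BC.Transpose.isIso_of_bijective_basis _
    (B := {W | ∃ (V : S.Opens) (hV : IsAffine (V : Scheme.{u})) (V' : T.Opens), IsAffineOpen V' ∧
      V' ≤ g ⁻¹ᵁ V ∧ (CohIII.tensorAFunctor (Local.AV V) (Local.MV f V F) ⋙
        CohIII.HAb (Local.XV f V) 0).PreservesEpimorphisms ∧ W = V'.ι ''ᵁ ⊤}) ?_ ?_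
  · refine Opens.isBasis_iff_nbhd.2 fun {U x} hx ↦ ?_
    obtain ⟨V, hV, hxV, hPV⟩ := hex x
    obtain ⟨V', hV', hxV', hle⟩ := exists_isAffineOpen_mem_and_subset (U := U ⊓ g ⁻¹ᵁ V) (x := x)
      ⟨hx, hxV⟩
    refine ⟨V'.ι ''ᵁ ⊤, ⟨V, hV, V', hV', fun y hy ↦ (hle hy).2, hPV, rfl⟩, ?_, ?_⟩
    · rw [V'.ι_image_top]; exact hxV'
    · rw [V'.ι_image_top]; exact fun y hy ↦ (hle hy).1
  · rintro _ ⟨V, hV, V', hV', hle, hPV, rfl⟩
    haveI : IsAffine (V' : Scheme.{u}) := hV'
    have e : V'.ι ''ᵁ ⊤ ≤ g ⁻¹ᵁ (V.ι ''ᵁ ⊤) := by rwa [V'.ι_image_top, V.ι_image_top]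
    exact (Function.Bijective.of_comp_iff _
      (PullbackSections.bijective_pbTensor g ((Scheme.Modules.pushforward f).obj F)
        (V.ι_image_top.symm ▸ hV) (V'.ι_image_top.symm ▸ hV') e)).1
      (bijective_chart f g g' f' h F V V' e hfl hPV)

end Global

end

end Groth.Agent.Lib.ExchangeFP29.BC0Glob
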