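import Groth.Agent.Lib.ExchangeFP29.Main
import Groth.Agent.Lib.ExchangeFP29.BC0Glob

/-!
# Base change of the direct image where the first fibre cohomology vanishes
-/

set_option autoImplicit false
set_option linter.style.haveILetI false
universe u

open CategoryTheory CategoryTheory.Limits AlgebraicGeometry TopologicalSpace
open Groth.Agent Groth.Agent.Lib Groth.Agent.Lib.FlatCx.Basic
open _root_.ZarCoh.Exchange

namespace Groth.Agent.Lib.ExchangeFP29.Main

variable {X S : Scheme.{u}} (f : X ⟶ S) (F : X.Modules) [IsProper f] [LocallyOfFinitePresentation f]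
  [F.IsQuasicoherent] (hF : CohB1.IsFP F) (hfl : FlatMod.IsFlatOver f F)

include hF hfl

/-- Right exactness of `H⁰` over affine opens on which the first fibre cohomology vanishes. -/
theorem preservesEpi_of_vanish (V : S.Opens) [IsAffine (V : Scheme.{u})]
    (h : ∀ y ∈ V, CohIII.fiberRank f F 1 y = 0) :
    (CohIII.tensorAFunctor (Local.AV V) (Local.MV f V F) ⋙
      CohIII.HAb (Local.XV f V) 0).PreservesEpimorphisms := by
  obtain ⟨P, hP, he, -, hz⟩ := exists_of_vanish f F hF hfl V
  obtain ⟨e⟩ := he 0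
  refine (Proper.preservesEpi_iff e).2 ?_
  haveI := hP.flat (-((1 : ℕ) : ℤ))
  exact (FlatCx.Basic.preservesEpi_iff P _ (-((1 : ℕ) : ℤ)) (by omega)).2 (hz 1 h).2.1

/-- The degree-zero base change map is an isomorphism where the first fibre cohomology vanishes. -/
theorem isIso_bc0 {X' T : Scheme.{u}} (g : T ⟶ S) (g' : X' ⟶ X) (f' : X' ⟶ T)
    (h : IsPullback g' f' f g) (h1 : ∀ t, CohIII.fiberRank f F 1 (g t) = 0) :
    IsIso (CohBC.bc0 f g f' g' h.w F) := by
  refine BC0Glob.isIso_bc0 f g g' f' h F hfl fun t => ?_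
  obtain ⟨V, hV, htV, hVU⟩ := exists_isAffineOpen_mem_and_subset
    (U := ⟨_, isOpen_fiberRank_eq_zero f F hF hfl 1⟩) (x := g t) (h1 t)
  haveI : IsAffine (V : Scheme.{u}) := hV
  exact ⟨V, hV, htV, preservesEpi_of_vanish f F hF hfl V fun y hy => hVU hy⟩

end Groth.Agent.Lib.ExchangeFP29.Main
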