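import Groth.Agent.Lib.TensorMod.TensorQCoh
import Groth.Agent.Lib.CohDelta.FPApprox.Sections
import Groth.Agent.Lib.Ample.GG
import Groth.Prelude.Def_Pic

/-!
# Twisting a module of finite presentation by an invertible module
-/

set_option autoImplicit false
set_option linter.style.haveILetI false
universe u

open CategoryTheory CategoryTheory.Limits AlgebraicGeometry TopologicalSpace
open Groth.Agent Groth.Agent.Lib Groth.Agent.Lib.TensorMod.Basic

namespace Groth.Agent.Lib.ExchangeFP29.Twist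

variable {X : Scheme.{u}} {M L : X.Modules}

open CohDelta.FPApprox.Sections in
/-- A twist by an invertible module is again of finite presentation. -/
theorem isFP_tensor [M.IsQuasicoherent] (hM : CohB1.IsFP M) (hL : PicF.IsInvertible L) :
    CohB1.IsFP (CohB1.tensorMod M L) := by
  haveI : L.IsQuasicoherent := (Ample.GG.isCoh_of_isInvertible hL).1
  haveI := TensorMod.TensorQCoh.isQCoh_tensorMod M L
  refine isFP_of_fpAt fun x => ?_
  obtain ⟨U, hxU, ⟨e⟩⟩ := hL x
  obtain ⟨W, hW, hxW, hWU⟩ := exists_isAffineOpen_mem_and_subset (U := U) (x := x) hxU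
  refine ⟨W, hW, hxW, ?_⟩
  have hi : U.ι ''ᵁ U.ι ⁻¹ᵁ W = W := by
    rw [Scheme.Hom.image_preimage_eq_opensRange_inf, Scheme.Opens.opensRange_ι]
    exact inf_eq_right.mpr hWU
  let i : (CohB1.tensorMod M L).restrict U.ι ≅ M.restrict U.ι :=
    TensorMod.Pullback.restrictTensorIso U.ι M L ≪≫ tensorIso (Iso.refl _) e ≪≫ rightUnit _
  refine (fp_restrict_iff U.ι _ _ hi).mp ((fpAt_of_bijective i.hom ?_).mpr
    ((fp_restrict_iff U.ι _ _ hi).mpr (fpAt_of_isFP hM hW)))
  exact ConcreteCategory.bijective_of_isIso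
    ((SheafOfModules.toSheaf _).map i.hom |>.hom.app (Opposite.op (U.ι ⁻¹ᵁ W)))

end Groth.Agent.Lib.ExchangeFP29.Twist
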