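import Groth.Agent.Lib.ExchangeFP29.FieldPoint
import Groth.Agent.Lib.ExchangeFP29.MainBC
import Groth.Agent.Lib.ExchangeFP29.CounitFibre
import Groth.Agent.Lib.ExchangeFP29.Twist
import Groth.Agent.Lib.Exchange.FlatTwist
import Groth.Agent.Lib.ProjKoszul.Regularity
import Groth.Agent.Lib.ProjSpace.TwistBC
import Groth.Agent.S11319
import Groth.Prelude.Def_Twist2

/-!
# Families on projective space with regular fibres
-/

set_option autoImplicit false
set_option linter.style.haveILetI false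
universe u

open CategoryTheory CategoryTheory.Limits AlgebraicGeometry TopologicalSpace
open Groth.Agent Groth.Agent.Lib Groth.Agent.Lib.TensorMod.Basic
open _root_.ZarCoh.Exchange

noncomputable section

namespace Groth.Agent.Lib.ExchangeFP29.ProjFibre

variable {n : ℕ} {S : Scheme.{u}}

/-- The fibre of `P^n_S` at a field-valued point, as projective space over the field. -/
def j {L : Type u} [Field L] (σ : Spec (CommRingCat.of L) ⟶ S) :
    CohB1.ProjSpace n L ⟶ CohB1.ProjSpaceOver n S :=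
  (ProjSpace.BaseChange.overSpecIso n L).inv ≫ ProjSpace.BaseChange.overMap n σ

theorem isPullback_j {L : Type u} [Field L] (σ : Spec (CommRingCat.of L) ⟶ S) :
    IsPullback (j (n := n) σ) (CohB1.ProjSpace.toSpec n L) (CohB1.ProjSpaceOver.toBase n S) σ := by
  have h : IsPullback (ProjSpace.BaseChange.overSpecIso n L).inv (CohB1.ProjSpace.toSpec n L)
      (CohB1.ProjSpaceOver.toBase n (Spec (CommRingCat.of L))) (𝟙 _) :=
    IsPullback.of_horiz_isIso ⟨by
      rw [ProjSpace.BaseChange.overSpecIso_inv_toBase, Category.comp_id]⟩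
  have h' := h.paste_horiz (ProjSpace.BaseChange.isPullback_overMap n σ)
  rwa [Category.id_comp] at h'

theorem j_fst {L : Type u} [Field L] (σ : Spec (CommRingCat.of L) ⟶ S) :
    j (n := n) σ ≫ pullback.fst (CohB1.ProjSpace.toSpec n (ULift.{u} ℤ))
        (specULiftZIsTerminal.from S) =
      ProjSpace.BaseChange.projMap n (ProjSpace.BaseChange.ulz L) := by
  rw [j, Category.assoc, ProjSpace.BaseChange.overMap_fst, Iso.inv_comp_eq,
    ProjSpace.BaseChange.overSpecIso_hom_projMap]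

theorem isInvertible_twistOver (d : ℤ) : PicF.IsInvertible (Twist.twistOver n S d) :=
  PicLoc.isInvertible_pullback _ (ProjCoh.Coherent.isInvertible_tw d)

/-- The twist of a module. -/
abbrev tw' (Q : (CohB1.ProjSpaceOver n S).Modules) (d : ℤ) : (CohB1.ProjSpaceOver n S).Modules :=
  CohB1.tensorMod Q (Twist.twistOver n S d)

variable (Q : (CohB1.ProjSpaceOver n S).Modules)

/-- The restriction of a twist to a fibre. -/
theorem nonempty_iso {L : Type u} [Field L] (σ : Spec (CommRingCat.of L) ⟶ S) (d : ℤ) :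
    Nonempty ((Scheme.Modules.pullback (j σ)).obj (tw' Q d) ≅
      CohB1.tensorMod ((Scheme.Modules.pullback (j σ)).obj Q) (ProjCoh.Coherent.tw n L d)) := by
  obtain ⟨e⟩ := ProjSpace.TwistBC.nonempty_iso (n := n) (ProjSpace.BaseChange.ulz L) d
  exact ⟨TensorMod.Pullback.pullbackTensorIso (j σ) _ _ ≪≫ tensorIso (Iso.refl _)
    ((Scheme.Modules.pullbackComp (j σ) _).app _ ≪≫
      (Scheme.Modules.pullbackCongr (j_fst σ)).app _ ≪≫ e)⟩

theorem isQCoh_tw' [Q.IsQuasicoherent] (d : ℤ) : (tw' Q d).IsQuasicoherent := by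
  haveI : (Twist.twistOver n S d).IsQuasicoherent :=
    (Ample.GG.isCoh_of_isInvertible (isInvertible_twistOver d)).1
  exact TensorMod.TensorQCoh.isQCoh_tensorMod _ _

/-- All twists have no higher cohomology on the fibre, with the shifts of regularity. -/
def RegPt (m : ℤ) (s : S) : Prop :=
  ∀ i : ℕ, 1 ≤ i →
    CohIII.fiberRank (CohB1.ProjSpaceOver.toBase n S) (tw' Q (m - i)) i s = 0

variable [Q.IsQuasicoherent] (hQ : CohB1.IsFP Q)
  (hfl : FlatMod.IsFlatOver (CohB1.ProjSpaceOver.toBase n S) Q)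

include hQ hfl

omit hfl in
theorem isFP_tw' (d : ℤ) : CohB1.IsFP (tw' Q d) :=
  ExchangeFP29.Twist.isFP_tensor hQ (isInvertible_twistOver d)

omit [Q.IsQuasicoherent] hQ in
theorem isFlat_tw' (d : ℤ) : FlatMod.IsFlatOver (CohB1.ProjSpaceOver.toBase n S) (tw' Q d) :=
  Exchange.FlatTwist.isFlatOver_twist _ (isInvertible_twistOver d) hfl

/-- Vanishing of the cohomology on a base change to a field is vanishing of the fibre rank. -/
theorem subsingleton_iff {L : Type u} [Field L] {X' : Scheme.{u}} (q : X' ⟶ Spec (CommRingCat.of L))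
    (σ : Spec (CommRingCat.of L) ⟶ S) (g' : X' ⟶ CohB1.ProjSpaceOver n S)
    (hsq : IsPullback g' q (CohB1.ProjSpaceOver.toBase n S) σ) (d : ℤ) (i : ℕ) :
    Subsingleton (Coh.HH X' ((Scheme.Modules.pullback g').obj (tw' Q d)) i) ↔
      CohIII.fiberRank (CohB1.ProjSpaceOver.toBase n S) (tw' Q d) i
        (σ (IsLocalRing.closedPoint L)) = 0 := by
  letI : X'.Over (Spec (CommRingCat.of L)) := ⟨q⟩
  haveI : IsProper (X' ↘ Spec (CommRingCat.of L)) :=
    MorphismProperty.of_isPullback hsq (ProjSpace.BaseChange.isProper_toBase n S)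
  haveI := isQCoh_tw' Q d
  haveI := QCoh.Pullback.isQCoh_pullback g' (tw' Q d)
  haveI : Module.Finite L (Coh.HH X' ((Scheme.Modules.pullback g').obj (tw' Q d)) i) :=
    Proper.finite_HH (A := L) _
      (H47.ConsFormalMod.isCoh_of_isFP _
        (H47.FlatLimit.isFP_pullback g' _ (isFP_tw' Q hQ d))) i
  rw [← FieldPoint.finrank_HH_eq _ _ (isFP_tw' Q hQ d) (isFlat_tw' Q hfl d) q σ g' hsq i]
  exact Module.finrank_zero_iff.symm

/-- Vanishing on the fibre as projective space. -/
theorem subsingleton_proj_iff {L : Type u} [Field L] (σ : Spec (CommRingCat.of L) ⟶ S) {s : S}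
    (hs : σ (IsLocalRing.closedPoint L) = s) (d : ℤ) (i : ℕ) :
    Subsingleton (Coh.HH (CohB1.ProjSpace n L)
      (CohB1.tensorMod ((Scheme.Modules.pullback (j σ)).obj Q) (ProjCoh.Coherent.tw n L d)) i) ↔
      CohIII.fiberRank (CohB1.ProjSpaceOver.toBase n S) (tw' Q d) i s = 0 := by
  obtain ⟨e⟩ := nonempty_iso Q σ d
  subst hs
  rw [← subsingleton_iff Q hQ hfl _ σ _ (isPullback_j σ) d i]
  exact ⟨fun h => ProjKoszul.Chase.subsingleton_of_iso L e.symm h,
    fun h => ProjKoszul.Chase.subsingleton_of_iso L e h⟩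

/-- Regularity of the fibre. -/
theorem reg_iff {L : Type u} [Field L] (σ : Spec (CommRingCat.of L) ⟶ S) {s : S}
    (hs : σ (IsLocalRing.closedPoint L) = s) (m : ℤ) :
    ProjKoszul.Regularity.Reg ((Scheme.Modules.pullback (j (n := n) σ)).obj Q) m ↔ RegPt Q m s :=
  forall₂_congr fun i _ => subsingleton_proj_iff Q hQ hfl σ hs _ i

theorem rank_eq_zero_of_le {m r : ℤ} {s : S} (h : RegPt Q m s) {i : ℕ} (hi : 1 ≤ i)
    (hr : m - i ≤ r) :
    CohIII.fiberRank (CohB1.ProjSpaceOver.toBase n S) (tw' Q r) i s = 0 :=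
  have hs := Scheme.fromSpecResidueField_apply s (IsLocalRing.closedPoint (S.residueField s))
  (subsingleton_proj_iff Q hQ hfl (S.fromSpecResidueField s) hs r i).1
    (ProjKoszul.Regularity.subsingleton_of_le
      ((reg_iff Q hQ hfl (S.fromSpecResidueField s) hs m).2 h) hi hr)

theorem regPt_of_le {m d : ℤ} {s : S} (h : RegPt Q m s) (hmd : m ≤ d) : RegPt Q d s :=
  fun i hi => rank_eq_zero_of_le Q hQ hfl h hi (by omega)

omit hQ hfl in
theorem isZero_toAb {Y : Scheme.{u}} {M : Y.Modules} (h : IsZero M) : IsZero (Coh.toAb M) :=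
  (SheafOfModules.toSheaf Y.ringCatSheaf).map_isZero h

omit hQ hfl in
theorem isQCoh_tensor_of_isCoh {X : Scheme.{u}} {M N : X.Modules} (hM : Coh.IsCoh M)
    (hN : Coh.IsCoh N) : SheafOfModules.IsQuasicoherent (R := X.ringCatSheaf) (CohB1.tensorMod M N) :=
  (ProjCoh.Coherent.isCoh_tensorMod hM hN).1

/-- The twists beyond the regularity have no higher direct images. -/
theorem isZero_RpushAb {m d : ℤ} (h : ∀ s, RegPt Q m s) (hd : m ≤ d) {i : ℕ} (hi : 1 ≤ i) :
    IsZero ((Coh.RpushAb (CohB1.ProjSpaceOver.toBase n S) i).obj (Coh.toAb (tw' Q d))) := by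
  haveI := isQCoh_tw' Q d
  haveI : HasInjectiveResolutions (CohB1.ProjSpaceOver n S).Modules :=
    haveI := DerivedOX.Grothendieck.enoughInjectives_modules (CohB1.ProjSpaceOver n S)
    inferInstance
  obtain ⟨e⟩ := Groth.Agent.S11319.result (CohB1.ProjSpaceOver.toBase n S) (tw' Q d) i
  refine IsZero.of_iso (isZero_toAb ?_) e.symm
  exact Main.isZero_Rpush _ _ (isFP_tw' Q hQ d) (isFlat_tw' Q hfl d) i fun s =>
    rank_eq_zero_of_le Q hQ hfl (h s) hi (by omega)

/-- The direct images of the twists beyond the regularity are locally free. -/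
theorem isFinLocFree_push {m d : ℤ} (h : ∀ s, RegPt Q m s) (hd : m ≤ d) :
    FlatMod.IsFinLocFree ((Coh.push (CohB1.ProjSpaceOver.toBase n S)).obj (tw' Q d)) := by
  haveI := isQCoh_tw' Q d
  haveI : HasInjectiveResolutions (CohB1.ProjSpaceOver n S).Modules :=
    haveI := DerivedOX.Grothendieck.enoughInjectives_modules (CohB1.ProjSpaceOver n S)
    inferInstance
  obtain ⟨z⟩ := Main.nonempty_zeroIso (CohB1.ProjSpaceOver.toBase n S) (tw' Q d)
  exact TensorMod.LocFree.of_iso z (Main.isFinLocFree_Rpush _ _ (isFP_tw' Q hQ d)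
    (isFlat_tw' Q hfl d) 0 fun s =>
      ⟨rank_eq_zero_of_le Q hQ hfl (h s) le_rfl (by omega), Or.inl rfl⟩)

/-- The twists beyond the regularity are generated relatively to the base. -/
theorem epi_counit {m d : ℤ} (h : ∀ s, RegPt Q m s) (hd : m ≤ d) :
    Epi ((Scheme.Modules.pullbackPushforwardAdjunction (CohB1.ProjSpaceOver.toBase n S)).counit.app
      (tw' Q d)) := by
  haveI := isQCoh_tw' Q d
  haveI := isFP_tw' Q hQ d
  refine CounitFibre.epi_counit _ _ fun x => ?_
  let s := (CohB1.ProjSpaceOver.toBase n S) x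
  let σ := S.fromSpecResidueField s
  have hsq := isPullback_j (n := n) (L := S.residueField s) σ
  have hs : σ (IsLocalRing.closedPoint (S.residueField s)) = s :=
    Scheme.fromSpecResidueField_apply s _
  obtain ⟨z, hz, -⟩ := Scheme.Pullback.exists_preimage_pullback x
    (IsLocalRing.closedPoint (S.residueField s))
    (f := CohB1.ProjSpaceOver.toBase n S) (g := σ) hs.symm
  refine ⟨CohB1.ProjSpace n (S.residueField s), _, CohB1.ProjSpace.toSpec n (S.residueField s),
    j σ, σ, hsq.w, hsq.isoPullback.inv z, ?_, ?_, ?_⟩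
  · rw [← hz, ← hsq.isoPullback_inv_fst]
    rfl
  · haveI := Main.isIso_bc0 _ _ (isFP_tw' Q hQ d) (isFlat_tw' Q hfl d) σ (j σ) _ hsq
      fun t => rank_eq_zero_of_le Q hQ hfl (h _) le_rfl (by omega)
    exact IsIso.epi_of_iso (CohBC.bc0 _ σ _ (j σ) hsq.w (tw' Q d))
  · obtain ⟨e⟩ := nonempty_iso Q σ d
    haveI := QCoh.Pullback.isQCoh_pullback (j σ) Q
    obtain ⟨ι, p, hp⟩ := ProjKoszul.Regularity.isGloballyGenerated_of_le
      (H47.ConsFormalMod.isCoh_of_isFP _ (H47.FlatLimit.isFP_pullback (j σ) _ hQ))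
      ((reg_iff Q hQ hfl σ hs m).2 (h s)) hd
    exact ⟨ι, p ≫ e.inv, epi_comp' hp (IsIso.epi_of_iso e.inv)⟩

omit hQ hfl in
theorem subsingleton_tw_of_tensorPow {L : Type u} [Field L] {M : (CohB1.ProjSpace n L).Modules}
    (d q : ℕ) (h : Subsingleton (Coh.HH (CohB1.ProjSpace n L)
      (CohB1.tensorMod M (CohB1.tensorPow (ProjCoh.Coherent.tw n L 1) d)) q)) :
    Subsingleton (Coh.HH (CohB1.ProjSpace n L)
      (CohB1.tensorMod M (ProjCoh.Coherent.tw n L (d : ℤ))) q) := by
  obtain ⟨e⟩ := ProjCoh.Coherent.nonempty_tensorPow_iso (n := n) (R := L) d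
  exact ProjKoszul.Chase.subsingleton_of_iso L (tensorIso (Iso.refl M) e.symm) h

/-- Every fibre is regular at some level. -/
theorem exists_regPt (s : S) : ∃ m : ℕ, RegPt Q m s := by
  let σ := S.fromSpecResidueField s
  have hs : σ (IsLocalRing.closedPoint (S.residueField s)) = s :=
    Scheme.fromSpecResidueField_apply s _
  haveI := QCoh.Pullback.isQCoh_pullback (j (n := n) σ) Q
  let M := (Scheme.Modules.pullback (j (n := n) σ)).obj Q
  have hM : Coh.IsCoh M :=
    H47.ConsFormalMod.isCoh_of_isFP _ (H47.FlatLimit.isFP_pullback (j σ) _ hQ)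
  obtain ⟨d₀, hd₀⟩ := ProjCoh.Coherent.exists_forall_subsingleton_tensorPow M hM
  refine ⟨d₀ + n, (reg_iff Q hQ hfl (L := S.residueField s) σ hs _).1 fun i hi => ?_⟩
  by_cases hin : n < i
  · exact @ProjCoh.Twist.subsingleton_HH_of_lt _ _ _ _
      (isQCoh_tensor_of_isCoh hM (ProjCoh.Coherent.isCoh_tw _)) _ hin
  · obtain ⟨d, hd⟩ : ∃ d : ℕ, (d : ℤ) = ((d₀ + n : ℕ) : ℤ) - i := ⟨d₀ + n - i, by omega⟩
    obtain ⟨q, rfl⟩ : ∃ q, i = q + 1 := ⟨i - 1, by omega⟩
    rw [← hd]
    exact subsingleton_tw_of_tensorPow d (q + 1) (hd₀ d (by omega) q)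

/-- The regular fibres form an open set. -/
theorem isOpen_regPt (m : ℤ) : IsOpen {s : S | RegPt Q m s} := by
  have : {s : S | RegPt Q m s} = ⋂ i ∈ Finset.Icc 1 n,
      {s : S | CohIII.fiberRank (CohB1.ProjSpaceOver.toBase n S) (tw' Q (m - i)) i s = 0} := by
    ext s
    simp only [Set.mem_iInter, Finset.mem_Icc, Set.mem_ofPred_eq]
    refine ⟨fun h i hi => h i hi.1, fun h i hi => ?_⟩
    by_cases hin : n < i
    · let σ := S.fromSpecResidueField s
      haveI := QCoh.Pullback.isQCoh_pullback (j (n := n) σ) Q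
      refine (subsingleton_proj_iff Q hQ hfl (L := S.residueField s) σ
        (Scheme.fromSpecResidueField_apply s _) _ i).1 ?_
      exact @ProjCoh.Twist.subsingleton_HH_of_lt _ _ _ _ (isQCoh_tensor_of_isCoh
        (H47.ConsFormalMod.isCoh_of_isFP _ (H47.FlatLimit.isFP_pullback (j σ) _ hQ))
        (ProjCoh.Coherent.isCoh_tw _)) _ hin
    · exact h i ⟨hi, by omega⟩
  rw [this]
  exact isOpen_biInter_finset fun i _ => by
    haveI := isQCoh_tw' Q (m - i)
    exact Main.isOpen_fiberRank_eq_zero _ _ (isFP_tw' Q hQ _) (isFlat_tw' Q hfl _) i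

/-- Over a quasi-compact base the fibres are uniformly regular. -/
theorem exists_forall_regPt [CompactSpace S] : ∃ m : ℕ, ∀ s, RegPt Q m s := by
  obtain ⟨m, hm⟩ := isCompact_univ.elim_directed_cover (fun m : ℕ => {s : S | RegPt Q (m : ℤ) s})
    (fun m => isOpen_regPt Q hQ hfl m) (fun s _ => Set.mem_iUnion.2 (exists_regPt Q hQ hfl s))
    (Monotone.directed_le fun a b hab s hs => regPt_of_le Q hQ hfl hs (by exact_mod_cast hab))
  exact ⟨m, fun s => hm (Set.mem_univ s)⟩

end Groth.Agent.Lib.ExchangeFP29.ProjFibre
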