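import Groth.Agent.Lib.ExchangeFP29.MainBC

/-!
# Higher direct images that are all locally free

When all higher direct images are locally free of prescribed ranks, these are the fibre ranks; and
conversely for a family whose fibre cohomology is concentrated in one degree with constant rank.
-/

set_option autoImplicit false
set_option linter.style.haveILetI false
universe u

open CategoryTheory CategoryTheory.Limits AlgebraicGeometry TopologicalSpace
open Groth.Agent Groth.Agent.Lib Groth.Agent.Lib.FlatCx.Basic Groth.Agent.Lib.FlatCx.Rank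
open Groth.Agent.Lib.FlatCx.HKer
open _root_.ZarCoh.Exchange

namespace Groth.Agent.Lib.ExchangeFP29.Locus

section Algebra

variable {A : Type u} [CommRing A] {P : ChainComplex (ModuleCat.{u} A) ℤ}

/-- If the homology in nonpositive degrees is projective, all cokernels are flat. -/
theorem flat_Q_of_projective_homology (h : Algebra.IsGood P)
    (hproj : ∀ j : ℤ, j ≤ 0 → Module.Projective A (P.homology j)) (j : ℤ) :
    Module.Flat A (Q P j) := by
  obtain ⟨b, hb⟩ := h.bdd
  suffices ∀ (n : ℕ) (j : ℤ), j ≤ b - 1 + n → Module.Flat A (Q P j) from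
    this (j - b + 1).toNat j (by omega)
  intro n
  induction n with
  | zero =>
    intro j hj
    haveI := ModuleCat.isZero_iff_subsingleton.1 (hb j (by omega))
    haveI : Subsingleton (Q P j) := (Submodule.mkQ_surjective _).subsingleton
    infer_instance
  | succ n ih =>
    intro j hj
    by_cases h0 : 0 ≤ j
    · exact h.flat_Q_nonneg j h0
    have hq : (j - 1) + 1 = j := by omega
    haveI := h.finite (j - 1)
    haveI := (h.fin (j - 1)).2
    haveI := h.projective_Q (j - 1) (ih (j - 1) (by omega))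
    let R := LinearMap.range (Dbar P j (j - 1))
    haveI : Module.Projective A (P.X (j - 1) ⧸ R) :=
      Module.Projective.of_equiv (Submodule.quotEquivOfEq _ _ (range_Dbar P hq)).symm
    obtain ⟨e₁⟩ := _root_.ZarCoh.Exchange.Free.exists_equiv_ker_prod R.mkQ (Submodule.mkQ_surjective _)
    let e₁' : P.X (j - 1) ≃ₗ[A] R × (P.X (j - 1) ⧸ R) :=
      e₁.trans (LinearEquiv.prodCongr (LinearEquiv.ofEq _ _ (Submodule.ker_mkQ R)) (LinearEquiv.refl A _))
    haveI : Module.Projective A R :=
      Module.Projective.of_split (e₁'.symm.toLinearMap ∘ₗ LinearMap.inl A _ _)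
        (LinearMap.fst A _ _ ∘ₗ e₁'.toLinearMap) (by ext b; simp)
    obtain ⟨e₂⟩ := _root_.ZarCoh.Exchange.Free.exists_equiv_ker_prod (Dbar P j (j - 1)).rangeRestrict
      (Dbar P j (j - 1)).surjective_rangeRestrict
    haveI := hproj j (by omega)
    haveI : Module.Projective A (LinearMap.ker (Dbar P j (j - 1)).rangeRestrict) :=
      Module.Projective.of_equiv ((homologyKerEquiv P hq).trans
        (LinearEquiv.ofEq _ _ (LinearMap.ker_rangeRestrict _).symm))
    haveI : Module.Projective A (Q P j) := Module.Projective.of_equiv e₂.symm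
    infer_instance

end Algebra

/-- The rank of a locally free module is read off any free chart. -/
theorem rank_eq {X : Scheme.{u}} {M : X.Modules} {r n : ℕ} (hM : FlatMod.IsFinLocFreeOfRank r M)
    {W : X.Opens} {x : X} (hx : x ∈ W) (i : M.restrict W.ι ≅ FlatMod.freeMod (↑W) n) : n = r := by
  obtain ⟨U, hxU, ⟨k⟩⟩ := hM x
  obtain ⟨i'⟩ := TensorMod.LocFree.exists_restrict_iso_freeMod (inf_le_left : W ⊓ U ≤ W) i
  obtain ⟨k'⟩ := TensorMod.LocFree.exists_restrict_iso_freeMod (inf_le_right : W ⊓ U ≤ U) k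
  exact TensorMod.TensorInv.freeMod_rank_eq (X := ((W ⊓ U : X.Opens) : Scheme.{u})) ⟨x, hx, hxU⟩
    (i'.symm ≪≫ k')

variable {X S : Scheme.{u}} (f : X ⟶ S) (F : X.Modules)
  [IsProper f] [LocallyOfFinitePresentation f] [F.IsQuasicoherent] [HasInjectiveResolutions X.Modules]
  (hF : CohB1.IsFP F) (hfl : FlatMod.IsFlatOver f F)

include hF hfl

/-- Locally free higher direct images have the fibre ranks. -/
theorem fiberRank_eq_of_locFree (r : ℕ → ℕ)
    (h : ∀ p, FlatMod.IsFinLocFreeOfRank (r p) ((Coh.Rpush f p).obj F)) (p : ℕ) (y : S) :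
    CohIII.fiberRank f F p y = r p := by
  obtain ⟨V, hV, hyV, -⟩ := exists_isAffineOpen_mem_and_subset (U := ⊤) (x := y) trivial
  haveI : IsAffine (V : Scheme.{u}) := hV
  obtain ⟨P, hP, hh⟩ := Rep.exists_local f F hF hfl V
  haveI : Coh.IsQCoh F := ‹F.IsQuasicoherent›
  have hproj : ∀ j : ℤ, j ≤ 0 → Module.Projective (Local.AV V) (P.homology j) := by
    intro j hj
    obtain ⟨m, hm⟩ : ∃ m : ℕ, j = -(m : ℤ) := ⟨(-j).toNat, by omega⟩
    subst hm
    obtain ⟨e⟩ := (hh m).1
    obtain ⟨s⟩ := Rep.nonempty_sections f F V e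
    haveI : ((Coh.Rpush f m).obj F).IsQuasicoherent := Groth.Agent.S0030.result f F m
    haveI := (Modules.AffineSections.finite_projective_sections
      (TensorMod.LocFree.isFinLocFree_restrict V.ι (TensorMod.LocFree.of_rank (h m)))
      (isAffineOpen_top (V : Scheme.{u}))).2
    exact Module.Projective.of_equiv s
  have hQ := flat_Q_of_projective_homology hP hproj
  obtain ⟨e⟩ := (hh p).1
  obtain ⟨W, hW, ⟨i⟩⟩ := Main.exists_free_nhd f F p hP e (hQ _) (hQ _) hyV
  exact rank_eq (h p) hW i

/-- Fibre cohomology concentrated in one degree with constant rank gives a locally free module in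
that degree. -/
theorem isFinLocFreeOfRank_of_fiberRank (p r : ℕ)
    (h0 : ∀ y, ∀ q : ℕ, q ≠ p → CohIII.fiberRank f F q y = 0)
    (h1 : ∀ y, CohIII.fiberRank f F p y = r) :
    FlatMod.IsFinLocFreeOfRank r ((Coh.Rpush f p).obj F) := by
  intro y
  obtain ⟨V, hV, hyV, -⟩ := exists_isAffineOpen_mem_and_subset (U := ⊤) (x := y) trivial
  haveI : IsAffine (V : Scheme.{u}) := hV
  obtain ⟨P, hP, he, -, hz⟩ := Main.exists_of_vanish f F hF hfl V
  obtain ⟨e⟩ := he p
  have hq : Module.Flat (Local.AV V) (Q P (-(p : ℤ) - 1)) := by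
    have h := (hz (p + 1) fun z _ => h0 z _ (by omega)).2.1
    rwa [show -((p + 1 : ℕ) : ℤ) = -(p : ℤ) - 1 by push_cast; ring] at h
  have hp : Module.Flat (Local.AV V) (Q P (-(p : ℤ))) := by
    rcases Nat.eq_zero_or_pos p with rfl | hpos
    · exact hP.flat_Q_nonneg _ (by simp)
    · have h := (hz (p - 1) fun z _ => h0 z _ (by omega)).2.2
      rwa [show -((p - 1 : ℕ) : ℤ) - 1 = -(p : ℤ) by omega] at h
  obtain ⟨W, hW, ⟨i⟩⟩ := Main.exists_free_nhd f F p hP e hp hq hyV
  rw [h1 y] at i
  exact ⟨W, hW, ⟨i⟩⟩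

end Groth.Agent.Lib.ExchangeFP29.Locus
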