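import Groth.Agent.Lib.ExchangeFP29.Main

/-!
# Vanishing of fibre cohomology from vanishing of higher direct images
-/

set_option autoImplicit false
set_option linter.style.haveILetI false
universe u

open CategoryTheory CategoryTheory.Limits AlgebraicGeometry TopologicalSpace
open Groth.Agent Groth.Agent.Lib Groth.Agent.Lib.FlatCx.Basic Groth.Agent.Lib.FlatCx.Rank
  Groth.Agent.Lib.FlatCx.HKer
open _root_.ZarCoh.Exchange

namespace Groth.Agent.Lib.ExchangeFP29.Descend

/-- Where the cokernel below is flat and the homology vanishes, so does the fibre homology. -/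
theorem dRank_eq_zero {A : Type u} [CommRing A] {P : ChainComplex (ModuleCat.{u} A) ℤ}
    (h : Algebra.IsGood P) (p q : ℤ) (hpq : q + 1 = p) (hq : Module.Flat A (Q P q))
    (hH : Subsingleton (P.homology p)) (x : PrimeSpectrum A) : CohIII.dRank P p x = 0 := by
  haveI := h.finite q
  haveI := (h.fin q).2
  haveI := hH
  haveI := h.projective_Q q hq
  haveI : Module.Projective A (P.X q ⧸ LinearMap.range (Dbar P p q)) :=
    Module.Projective.of_equiv (Submodule.quotEquivOfEq _ _ (range_Dbar P hpq)).symm
  obtain ⟨e⟩ := _root_.ZarCoh.Exchange.Free.exists_equiv_ker_prod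
    (LinearMap.range (Dbar P p q)).mkQ (Submodule.mkQ_surjective _)
  let R := LinearMap.range (Dbar P p q)
  let e' : P.X q ≃ₗ[A] R × (P.X q ⧸ R) :=
    e.trans (LinearEquiv.prodCongr (LinearEquiv.ofEq _ _ (Submodule.ker_mkQ R))
      (LinearEquiv.refl A _))
  haveI : Module.Projective A R :=
    Module.Projective.of_split (e'.symm.toLinearMap ∘ₗ LinearMap.inl A _ _)
      (LinearMap.fst A _ _ ∘ₗ e'.toLinearMap) (by ext b; simp)
  have hinj : Function.Injective (Dbar P p q) := by
    rw [← LinearMap.ker_eq_bot, Submodule.eq_bot_iff]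
    intro c hc
    exact congrArg Subtype.val ((homologyKerEquiv P hpq).symm.injective.subsingleton.elim
      (⟨c, hc⟩ : LinearMap.ker (Dbar P p q)) 0)
  haveI : Module.Flat A R := inferInstance
  have hp : Module.Flat A (Q P p) :=
    Module.Flat.of_linearEquiv (LinearEquiv.ofInjective _ hinj)
  rw [← (h.homology_projective p q hpq hp hq).2.2 x]
  exact Module.finrank_zero_of_subsingleton

variable {X S : Scheme.{u}} (f : X ⟶ S) (F : X.Modules) [IsProper f] [LocallyOfFinitePresentation f]
  [F.IsQuasicoherent] [HasInjectiveResolutions X.Modules]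

/-- If the fibres have no cohomology in degree `p + 1` and the `p`th higher direct image vanishes,
the fibres have no cohomology in degree `p`. -/
theorem fiberRank_eq_zero (hF : CohB1.IsFP F) (hfl : FlatMod.IsFlatOver f F) (p : ℕ)
    (h1 : ∀ y, CohIII.fiberRank f F (p + 1) y = 0) (h2 : IsZero ((Coh.Rpush f p).obj F)) (y : S) :
    CohIII.fiberRank f F p y = 0 := by
  obtain ⟨V, hV, hyV, -⟩ := exists_isAffineOpen_mem_and_subset (U := ⊤) (x := y) trivial
  haveI : IsAffine (V : Scheme.{u}) := hV
  obtain ⟨P, hP, he, hr, hz⟩ := Main.exists_of_vanish f F hF hfl V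
  obtain ⟨e⟩ := he p
  obtain ⟨s⟩ := Rep.nonempty_sections f F V e
  haveI := Modules.AffineSections.subsingleton_sections
    ((Scheme.Modules.restrictFunctor V.ι).map_isZero h2) ⊤
  have hq : Module.Flat (Local.AV V) (Q P (-(p : ℤ) - 1)) := by
    have h := (hz (p + 1) fun z _ => h1 z).2.1
    rwa [show -((p + 1 : ℕ) : ℤ) = -(p : ℤ) - 1 by push_cast; ring] at h
  have := dRank_eq_zero hP (-(p : ℤ)) (-(p : ℤ) - 1) (by omega) hq s.symm.injective.subsingleton
    (Main.pt V hyV)
  rwa [← hr, Main.k_pt] at this

end Groth.Agent.Lib.ExchangeFP29.Descend
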