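import Groth.Agent.Lib.ExchangeFP29.Locus
import Groth.Agent.Lib.DerivedOX.RpushQCoh

/-!
# When the derived direct image is a locally free module in one degree
-/

set_option autoImplicit false
set_option linter.style.haveILetI false
universe u

open CategoryTheory CategoryTheory.Limits AlgebraicGeometry DerivedCategory
attribute [local instance] HasDerivedCategory.standard

namespace Groth.Agent.Lib.ExchangeFP29.LocusD

open Groth.Agent.Lib Groth.Agent.Lib.DerivedOX
open Groth.Agent.Lib.SpecSeq.RightHom Groth.Agent.Lib.SpecSeq.AcyclicComplex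

/-- The rank of a point prescribed by an integer degree. -/
noncomputable def degRank {X S : Scheme.{u}} (f : X ⟶ S) (F : X.Modules) (i : ℤ) (s : S) : ℕ :=
  if 0 ≤ i then CohIII.fiberRank f F i.toNat s else 0

/-- Fibre cohomology concentrated in degree `i` with rank `r`. -/
def Conc {X S : Scheme.{u}} (f : X ⟶ S) (F : X.Modules) (i : ℤ) (r : ℕ) (s : S) : Prop :=
  (∀ j : ℕ, (j : ℤ) ≠ i → CohIII.fiberRank f F j s = 0) ∧ degRank f F i s = r

/-- A zero module is free of rank zero. -/
theorem rank_zero_of_isZero {X : Scheme.{u}} {M : X.Modules} (h : IsZero M) :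
    FlatMod.IsFinLocFreeOfRank 0 M := fun _ =>
  ⟨⊤, trivial, ⟨((Scheme.Modules.restrictFunctor (⊤ : X.Opens).ι).map_isZero h).iso
    ((IsZero.iff_id_eq_zero _).2 (Limits.Sigma.hom_ext _ _ fun b => b.elim0))⟩⟩

variable {X S : Scheme.{u}} (f : X ⟶ S) (F : X.Modules)

/-- The derived direct image of a module lives in nonnegative degrees. -/
theorem isZero_HD_neg [DCoh.HasRpush f] (n : ℤ) (hn : n < 0) :
    IsZero (DCoh.HD ((DCoh.Rpush f).obj (DCoh.inD X F)) n) := by
  haveI : (DCoh.inD X F).IsGE 0 := inferInstanceAs (((singleFunctor X.Modules 0).obj F).IsGE 0)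
  exact (isZero_RH_of_isGE (RpushQCoh.P f) _ 0 n hn).of_iso (RpushQCoh.nonempty_HD_Rpush f _ n).some

/-- Its cohomology in degree `p` is the higher direct image. -/
theorem nonempty_HD_iso [DCoh.HasRpush f] [HasInjectiveResolutions X.Modules] (p : ℕ) :
    Nonempty (DCoh.HD ((DCoh.Rpush f).obj (DCoh.inD X F)) (p : ℤ) ≅ (Coh.Rpush f p).obj F) := by
  obtain ⟨a⟩ := RpushQCoh.nonempty_HD_Rpush f (DCoh.inD X F) (p : ℤ)
  obtain ⟨b⟩ := RpushQCoh.nonempty_RS_iso f F p
  exact ⟨a ≪≫ b⟩

/-- An object with cohomology in one degree. -/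
theorem nonempty_iso_shift {T : Scheme.{u}} (E : DCoh.D T) (i : ℤ)
    (h : ∀ n, n ≠ i → IsZero (DCoh.HD E n)) :
    Nonempty (E ≅ (DCoh.inD T (DCoh.HD E i))⟦-i⟧) := by
  haveI : E.IsGE i := (isGE_iff _ _).2 fun n hn => h n (by omega)
  haveI : E.IsLE i := (isLE_iff _ _).2 fun n hn => h n (by omega)
  obtain ⟨M, ⟨e⟩⟩ := exists_iso_singleFunctor_obj_of_isGE_of_isLE E i
  let c : DCoh.HD E i ≅ M :=
    (homologyFunctor _ i).mapIso e ≪≫ (singleFunctorCompHomologyFunctorIso _ i).app M
  exact ⟨e ≪≫ (singleFunctor T.Modules i).mapIso c.symm ≪≫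
    (((DerivedCategory.singleFunctors _).shiftIso (-i) i 0 (by omega)).app (DCoh.HD E i)).symm⟩

/-- A shifted module has cohomology only in that degree. -/
theorem HD_shift {T : Scheme.{u}} {E : DCoh.D T} {M : T.Modules} {i : ℤ}
    (e : E ≅ (DCoh.inD T M)⟦-i⟧) :
    Nonempty (DCoh.HD E i ≅ M) ∧ ∀ n, n ≠ i → IsZero (DCoh.HD E n) := by
  let e' : E ≅ (singleFunctor T.Modules i).obj M :=
    e ≪≫ ((DerivedCategory.singleFunctors _).shiftIso (-i) i 0 (by omega)).app M
  refine ⟨⟨(homologyFunctor _ i).mapIso e' ≪≫ (singleFunctorCompHomologyFunctorIso _ i).app M⟩,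
    fun n hn => IsZero.of_iso ?_ ((homologyFunctor _ n).mapIso e')⟩
  rcases lt_or_gt_of_ne hn with h | h
  · exact isZero_of_isGE ((singleFunctor T.Modules i).obj M) i n h
  · exact isZero_of_isLE ((singleFunctor T.Modules i).obj M) i n h

variable [IsProper f] [LocallyOfFinitePresentation f] [F.IsQuasicoherent]
  (hF : CohB1.IsFP F) (hfl : FlatMod.IsFlatOver f F)

include hF hfl

/-- `Rf_*F` is a locally free module of rank `r` in degree `i` iff the fibre cohomology is so. -/
theorem exists_locFree_iff [DCoh.HasRpush f] (i : ℤ) (r : ℕ) :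
    (∃ V : S.Modules, FlatMod.IsFinLocFreeOfRank r V ∧
      Nonempty ((DCoh.Rpush f).obj (DCoh.inD X F) ≅ (DCoh.inD S V)⟦-i⟧)) ↔
      ∀ s, Conc f F i r s := by
  haveI : EnoughInjectives X.Modules := inferInstance
  haveI : HasInjectiveResolutions X.Modules := inferInstance
  refine ⟨fun ⟨V, hV, ⟨e⟩⟩ s => ?_, fun h => ?_⟩
  · obtain ⟨⟨c⟩, hz⟩ := HD_shift e
    let ρ : ℕ → ℕ := fun p => if (p : ℤ) = i then r else 0
    have hρ : ∀ p, FlatMod.IsFinLocFreeOfRank (ρ p) ((Coh.Rpush f p).obj F) := fun p => by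
      obtain ⟨a⟩ := nonempty_HD_iso f F p
      by_cases hp : (p : ℤ) = i
      · subst hp
        simp only [ρ, if_true]
        exact TensorMod.LocFree.rank_of_iso (c.symm ≪≫ a) hV
      · simp only [ρ, if_neg hp]
        exact rank_zero_of_isZero ((hz _ hp).of_iso a.symm)
    have key := Locus.fiberRank_eq_of_locFree f F hF hfl ρ hρ
    refine ⟨fun j hj => by rw [key]; exact if_neg hj, ?_⟩
    unfold degRank
    split_ifs with hi
    · rw [key]
      exact if_pos (Int.toNat_of_nonneg hi)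
    · have h0 : IsZero V := (isZero_HD_neg f F i (by omega)).of_iso c.symm
      obtain ⟨W, hW, ⟨k⟩⟩ := rank_zero_of_isZero h0 s
      exact (Locus.rank_eq hV hW k)
  · let E := (DCoh.Rpush f).obj (DCoh.inD X F)
    have hz : ∀ n, n ≠ i → IsZero (DCoh.HD E n) := fun n hn => by
      rcases lt_or_ge n 0 with h0 | h0
      · exact isZero_HD_neg f F n h0
      · obtain ⟨p, rfl⟩ := Int.eq_ofNat_of_zero_le h0
        obtain ⟨a⟩ := nonempty_HD_iso f F p
        exact (Main.isZero_Rpush f F hF hfl p fun s => (h s).1 p hn).of_iso a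
    refine ⟨DCoh.HD E i, ?_, nonempty_iso_shift E i hz⟩
    rcases lt_or_ge i 0 with hi | hi
    · intro s
      obtain rfl : r = 0 := by
        have := (h s).2
        unfold degRank at this
        rw [if_neg (by omega)] at this
        exact this.symm
      exact rank_zero_of_isZero (isZero_HD_neg f F i hi) s
    · obtain ⟨p, rfl⟩ := Int.eq_ofNat_of_zero_le hi
      obtain ⟨a⟩ := nonempty_HD_iso f F p
      refine TensorMod.LocFree.rank_of_iso a.symm
        (Locus.isFinLocFreeOfRank_of_fiberRank f F hF hfl p r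
          (fun s q hq => (h s).1 q (by exact_mod_cast hq)) fun s => ?_)
      have := (h s).2
      simpa [degRank] using this

/-- The locus of concentrated fibre cohomology is open. -/
theorem isOpen_conc (i : ℤ) (r : ℕ) : IsOpen {s : S | Conc f F i r s} := by
  have h1 := Main.isOpen_forall_fiberRank_eq_zero f F hF hfl {j : ℕ | (j : ℤ) ≠ i}
  by_cases hi : 0 ≤ i
  · obtain ⟨p, rfl⟩ := Int.eq_ofNat_of_zero_le hi
    rw [isOpen_iff_forall_mem_open]
    intro s hs
    have he := Main.isLocallyConstant_eulerChar f F hF hfl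
    obtain ⟨U, hU, hsU, hconst⟩ := (IsLocallyConstant.iff_exists_open _).1 he s
    refine ⟨{t | ∀ j ∈ {j : ℕ | (j : ℤ) ≠ (p : ℤ)}, CohIII.fiberRank f F j t = 0} ∩ U, ?_,
      h1.inter hU, fun j hj => hs.1 j hj, hsU⟩
    rintro t ⟨ht, htU⟩
    have key : ∀ z, (∀ j : ℕ, (j : ℤ) ≠ (p : ℤ) → CohIII.fiberRank f F j z = 0) →
        PerfAux.eulerChar f F z = (-1 : ℤ) ^ p * CohIII.fiberRank f F p z := fun z hz => by
      unfold PerfAux.eulerChar
      rw [finsum_eq_single _ p fun j hj => ?_]
      · rw [Main.betti_eq]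
      · rw [Main.betti_eq, hz j (by exact_mod_cast hj)]
        simp
    refine ⟨fun j hj => ht j hj, ?_⟩
    have h := hconst t htU
    rw [key t fun j hj => ht j hj, key s hs.1] at h
    have h2 := mul_left_cancel₀ (pow_ne_zero p (by norm_num : (-1 : ℤ) ≠ 0)) h
    have h3 := hs.2
    simp only [degRank, hi, if_true, Int.toNat_natCast] at h3 ⊢
    omega
  · by_cases hr : r = 0
    · subst hr
      convert h1 using 1
      ext t
      exact ⟨fun h j hj => h.1 j hj, fun h => ⟨fun j hj => h j hj, if_neg hi⟩⟩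
    · convert isOpen_empty using 1
      ext t
      exact ⟨fun h => hr (h.2.symm.trans (if_neg hi)), fun h => h.elim⟩

end Groth.Agent.Lib.ExchangeFP29.LocusD
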