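import Groth.Agent.Lib.ExchangeFP29.ProjFibre
import Groth.Agent.Lib.ExchangeFP29.Descend
import Groth.Agent.Lib.H70.KRRReg.Local
import Groth.Agent.Lib.TensorMod.FPConv
import Groth.Agent.Lib.Exchange.NearFibre

/-!
# Relative regularity is regularity of the fibres
-/

set_option autoImplicit false
set_option linter.style.haveILetI false
universe u

open CategoryTheory CategoryTheory.Limits AlgebraicGeometry TopologicalSpace
open Groth.Agent Groth.Agent.Lib Groth.Agent.Lib.TensorMod.Basic

noncomputable section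

namespace Groth.Agent.Lib.ExchangeFP29.RegSheaf

variable {n : ℕ} {S : Scheme.{u}} (F : (KRR.PY n S).Modules) [F.IsQuasicoherent]
  (hF : CohB1.IsFP F) (hfl : FlatMod.IsFlatOver (KRR.pr n S) F)

/-- `O(0) ⊗ F ≅ F`. -/
def twZeroIso : ProjFibre.tw' F 0 ≅ F :=
  tensorIso (Iso.refl F) H73.RegSeq.overZero ≪≫ rightUnit F

include hF hfl

/-- On a fibre the cohomology vanishes above the dimension of the projective space. -/
theorem rank_eq_zero_of_lt (d : ℤ) {i : ℕ} (hi : n < i) (s : S) :
    CohIII.fiberRank (KRR.pr n S) (ProjFibre.tw' F d) i s = 0 := by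
  let σ := S.fromSpecResidueField s
  haveI := QCoh.Pullback.isQCoh_pullback (ProjFibre.j (n := n) σ) F
  refine (ProjFibre.subsingleton_proj_iff F hF hfl (L := S.residueField s) σ
    (Scheme.fromSpecResidueField_apply s _) d i).1 ?_
  exact @ProjCoh.Twist.subsingleton_HH_of_lt _ _ _ _ (ProjFibre.isQCoh_tensor_of_isCoh
    (H47.ConsFormalMod.isCoh_of_isFP _ (H47.FlatLimit.isFP_pullback (ProjFibre.j σ) _ hF))
    (ProjCoh.Coherent.isCoh_tw _)) _ hi

omit hF hfl [F.IsQuasicoherent] in
theorem isZero_of_toAb {Y : Scheme.{u}} {M : Y.Modules} (h : IsZero (Coh.toAb M)) : IsZero M :=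
  (IsZero.iff_id_eq_zero M).2
    ((SheafOfModules.toSheaf Y.ringCatSheaf).map_injective (h.eq_of_src _ _))

/-- Relative regularity gives regularity of the fibres. -/
theorem regPt (hreg : KRR.IsRegSheaf n S F) (s : S) : ProjFibre.RegPt F 0 s := by
  intro i hi
  haveI := ProjFibre.isQCoh_tw' F (0 - (i : ℤ))
  haveI : HasInjectiveResolutions (KRR.PY n S).Modules :=
    haveI := DerivedOX.Grothendieck.enoughInjectives_modules (KRR.PY n S)
    inferInstance
  suffices key : ∀ k j : ℕ, n + 1 ≤ j + k → i ≤ j → ∀ t,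
      CohIII.fiberRank (KRR.pr n S) (ProjFibre.tw' F (0 - (i : ℤ))) j t = 0 from
    key (n + 1) i (by omega) le_rfl s
  intro k
  induction k with
  | zero => exact fun j hj _ t => rank_eq_zero_of_lt F hF hfl _ (by omega) t
  | succ k ih =>
    intro j hj hij t
    refine Descend.fiberRank_eq_zero _ _ (ProjFibre.isFP_tw' F hF _)
      (ProjFibre.isFlat_tw' F hfl _) j (ih (j + 1) (by omega) (by omega)) ?_ t
    obtain ⟨e⟩ := Groth.Agent.S11319.result (KRR.pr n S) (ProjFibre.tw' F (0 - (i : ℤ))) j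
    refine isZero_of_toAb (IsZero.of_iso ?_ e)
    exact H70.KRRReg.Local.isZero_Rp_of_le (F := F) ‹F.IsQuasicoherent› hreg j (by omega) _
      (by omega)

/-- Regularity of the fibres gives relative regularity. -/
theorem isRegSheaf (h : ∀ s, ProjFibre.RegPt F 0 s) : KRR.IsRegSheaf n S F := by
  intro i hi
  haveI := ProjFibre.isQCoh_tw' F (-(i : ℤ))
  haveI : HasInjectiveResolutions (KRR.PY n S).Modules :=
    haveI := DerivedOX.Grothendieck.enoughInjectives_modules (KRR.PY n S)
    inferInstance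
  have e : KRR.twF n S (-(i : ℤ)) F ≅ ProjFibre.tw' F (-(i : ℤ)) :=
    TensorMod.Basic.comm (Twist.twistOver n S (-(i : ℤ))) F
  obtain ⟨e'⟩ := Groth.Agent.S11319.result (KRR.pr n S) (ProjFibre.tw' F (-(i : ℤ))) i
  refine IsZero.of_iso ?_
    ((Coh.RpushAb (KRR.pr n S) i).mapIso ((SheafOfModules.toSheaf _).mapIso e))
  refine IsZero.of_iso (ProjFibre.isZero_toAb ?_) e'.symm
  exact Main.isZero_Rpush _ _ (ProjFibre.isFP_tw' F hF _) (ProjFibre.isFlat_tw' F hfl _) i fun s =>
    ProjFibre.rank_eq_zero_of_le F hF hfl (h s) hi (by omega)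

end Groth.Agent.Lib.ExchangeFP29.RegSheaf
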