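import Groth.Agent.Lib.Exchange.Free
import Groth.Agent.Lib.Cube.SemiCont
import Groth.Agent.Lib.IntTheory.ChiConst

/-!
# Complexes of finite projective modules over an arbitrary ring

The semicontinuity and exchange statements for the fibre homology of a complex of finite projective
modules, without a Noetherian hypothesis.
-/

set_option autoImplicit false
set_option linter.style.haveILetI false
universe u

open CategoryTheory CategoryTheory.Limits
open scoped TensorProduct
open Groth.Agent.Lib Groth.Agent.Lib.FlatCx.Basic Groth.Agent.Lib.FlatCx.Rank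
open Groth.Agent.Lib.FlatCx.HKer

namespace Groth.Agent.Lib.ExchangeFP29.Algebra

section Linear

variable {A : Type u} [CommRing A] {C N : Type u} [AddCommGroup C] [Module A C] [AddCommGroup N]
  [Module A N]

/-- A finite module whose fibres all vanish is zero. -/
theorem subsingleton_of_fibres [Module.Finite A C]
    (h : ∀ x : PrimeSpectrum A, Subsingleton (x.asIdeal.ResidueField ⊗[A] C)) : Subsingleton C := by
  rw [← Module.support_eq_empty_iff (R := A), Set.eq_empty_iff_forall_notMem]
  intro x hx
  rw [Module.mem_support_iff_nontrivial_residueField_tensorProduct] at hx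
  haveI := hx
  haveI := h x
  exact false_of_nontrivial_of_subsingleton (x.asIdeal.ResidueField ⊗[A] C)

/-- A map of a finite module to a finite projective one, injective on every fibre, is a split
injection. -/
theorem projective_of_fibres [Module.Finite A C] [Module.Finite A N] [Module.Projective A N]
    (l : C →ₗ[A] N)
    (h : ∀ x : PrimeSpectrum A, Function.Injective (l.baseChange x.asIdeal.ResidueField)) :
    Function.Injective l ∧ Module.Projective A C ∧
      Module.Projective A (N ⧸ LinearMap.range l) := by
  haveI : Module.FinitePresentation A N := Module.finitePresentation_of_projective A N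
  have hfg : (LinearMap.range l).FG := by
    rw [LinearMap.range_eq_map]
    exact (Module.Finite.fg_top (R := A) (M := C)).map l
  haveI : Module.FinitePresentation A (N ⧸ LinearMap.range l) :=
    Module.finitePresentation_of_surjective (LinearMap.range l).mkQ (Submodule.mkQ_surjective _)
      (by rwa [Submodule.ker_mkQ])
  haveI hQ : Module.Projective A (N ⧸ LinearMap.range l) := by
    refine Module.projective_of_localization_maximal fun m hm => ?_
    let L := Localization.AtPrime m
    let k := IsLocalRing.ResidueField L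
    have hkL : Function.Injective ((l.baseChange L).lTensor k) := by
      have hsq : ∀ z, TensorProduct.AlgebraTensorModule.cancelBaseChange A L L k N
          ((l.baseChange L).lTensor k z) =
          l.lTensor k (TensorProduct.AlgebraTensorModule.cancelBaseChange A L L k C z) := by
        intro z
        induction z using TensorProduct.induction_on with
        | zero => simp
        | tmul a w =>
          induction w using TensorProduct.induction_on with
          | zero => simp
          | tmul b x => simp
          | add a c ha hc => simp only [TensorProduct.tmul_add, map_add, ha, hc]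
        | add a c ha hc => simp only [map_add, ha, hc]
      intro a b hab
      apply (TensorProduct.AlgebraTensorModule.cancelBaseChange A L L k C).injective
      apply h ⟨m, hm.isPrime⟩
      show l.lTensor k _ = l.lTensor k _
      rw [← hsq, ← hsq, hab]
    haveI : Module.Free L (L ⊗[A] N) := Module.free_of_flat_of_isLocalRing
    have hfree : Module.Free L (L ⊗[A] (N ⧸ LinearMap.range l)) :=
      Module.free_of_lTensor_residueField_injective
        (l.baseChange L) ((LinearMap.range l).mkQ.baseChange L)
        (LinearMap.lTensor_surjective L (Submodule.mkQ_surjective _))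
        (lTensor_exact L (LinearMap.exact_map_mkQ_range l) (Submodule.mkQ_surjective _)) hkL
    exact Module.Projective.of_equiv
      (LocalizedModule.equivTensorProduct m.primeCompl (N ⧸ LinearMap.range l)).symm
  obtain ⟨e⟩ := _root_.ZarCoh.Exchange.Free.exists_equiv_ker_prod (LinearMap.range l).mkQ
    (Submodule.mkQ_surjective _)
  haveI : Module.Projective A (LinearMap.range l) := by
    haveI : Module.Projective A (LinearMap.ker (LinearMap.range l).mkQ) :=
      Module.Projective.of_split (e.symm.toLinearMap ∘ₗ LinearMap.inl A _ _)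
        (LinearMap.fst A _ _ ∘ₗ e.toLinearMap) (by ext b; simp)
    exact Module.Projective.of_equiv (LinearEquiv.ofEq _ _ (Submodule.ker_mkQ (LinearMap.range l)))
  obtain ⟨e'⟩ := _root_.ZarCoh.Exchange.Free.exists_equiv_ker_prod l.rangeRestrict
    l.surjective_rangeRestrict
  let r : C →ₗ[A] LinearMap.ker l.rangeRestrict := LinearMap.fst A _ _ ∘ₗ e'.toLinearMap
  haveI : Module.Finite A (LinearMap.ker l.rangeRestrict) :=
    Module.Finite.of_surjective r (Prod.fst_surjective.comp e'.surjective)
  have hj : l ∘ₗ (LinearMap.ker l.rangeRestrict).subtype = 0 := by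
    refine LinearMap.ext fun c => ?_
    exact congrArg Subtype.val (LinearMap.mem_ker.1 c.2)
  have hinj : Function.Injective l := by
    haveI : Subsingleton (LinearMap.ker l.rangeRestrict) := by
      refine subsingleton_of_fibres (A := A) fun x => ?_
      obtain ⟨s, hs⟩ := Module.projective_lifting_property l.rangeRestrict LinearMap.id
        l.surjective_rangeRestrict
      let r' : C →ₗ[A] LinearMap.ker l.rangeRestrict :=
        (LinearMap.id - s ∘ₗ l.rangeRestrict).codRestrict _ fun c => by
          rw [LinearMap.mem_ker, LinearMap.sub_apply, map_sub, LinearMap.id_apply, LinearMap.comp_apply,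
            show l.rangeRestrict (s (l.rangeRestrict c)) = l.rangeRestrict c from
              LinearMap.congr_fun hs _, sub_self]
      have hr : r' ∘ₗ (LinearMap.ker l.rangeRestrict).subtype = LinearMap.id := by
        refine LinearMap.ext fun c => Subtype.ext ?_
        show (c : C) - s (l.rangeRestrict (c : C)) = c
        rw [LinearMap.mem_ker.1 c.2, map_zero, sub_zero]
      refine ⟨fun a b => ?_⟩
      have key : ∀ a, a = r'.lTensor x.asIdeal.ResidueField
          ((LinearMap.ker l.rangeRestrict).subtype.lTensor x.asIdeal.ResidueField a) := fun a => by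
        rw [← LinearMap.lTensor_comp_apply, hr, LinearMap.lTensor_id, LinearMap.id_apply]
      have hz : ∀ a, (LinearMap.ker l.rangeRestrict).subtype.lTensor x.asIdeal.ResidueField a = 0 :=
        fun a => h x (by
          rw [map_zero]
          show l.lTensor x.asIdeal.ResidueField _ = 0
          rw [← LinearMap.lTensor_comp_apply, hj, LinearMap.lTensor_zero, LinearMap.zero_apply])
      rw [key a, key b, hz, hz]
    rw [← LinearMap.ker_eq_bot, Submodule.eq_bot_iff]
    intro c hc
    have hc' : c ∈ LinearMap.ker l.rangeRestrict := LinearMap.mem_ker.2 (Subtype.ext hc)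
    exact congrArg Subtype.val (Subsingleton.elim (⟨c, hc'⟩ : LinearMap.ker l.rangeRestrict) 0)
  exact ⟨hinj, Module.Projective.of_equiv (LinearEquiv.ofInjective l hinj).symm, hQ⟩

end Linear

section Complex

variable {A : Type u} [CommRing A] (P : ChainComplex (ModuleCat.{u} A) ℤ)

/-- The properties of an exchange complex. -/
structure IsGood : Prop where
  fin : ∀ i, Module.Finite A (P.X i) ∧ Module.Projective A (P.X i)
  bdd : ∃ b, ∀ i, i < b → IsZero (P.X i)
  pos : ∀ i : ℤ, 0 < i → ∀ M, IsZero (CohIII.T P i M)

variable {P}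

theorem IsGood.finite (h : IsGood P) (i : ℤ) : Module.Finite A (P.X i) := (h.fin i).1

theorem IsGood.flat (h : IsGood P) (i : ℤ) : Module.Flat A (P.X i) :=
  haveI := (h.fin i).2
  inferInstance

theorem IsGood.finitePresentation_Q (h : IsGood P) (i : ℤ) : Module.FinitePresentation A (Q P i) := by
  haveI := h.finite i
  haveI := h.finite (i + 1)
  haveI := (h.fin i).2
  haveI : Module.FinitePresentation A (P.X i) := Module.finitePresentation_of_projective A _
  refine Module.finitePresentation_of_surjective (Bd P i).mkQ (Submodule.mkQ_surjective _) ?_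
  rw [Submodule.ker_mkQ]
  show (LinearMap.range _).FG
  rw [LinearMap.range_eq_map]
  exact (Module.Finite.fg_top (R := A) (M := P.X (i + 1))).map _

theorem IsGood.projective_Q (h : IsGood P) (i : ℤ) (hQ : Module.Flat A (Q P i)) :
    Module.Projective A (Q P i) :=
  haveI := h.finitePresentation_Q i
  haveI := hQ
  Module.Flat.projective_of_finitePresentation

theorem IsGood.isLocallyConstant_X (h : IsGood P) (i : ℤ) :
    IsLocallyConstant (fdim (A := A) (P.X i)) :=
  haveI := h.finite i
  haveI := (h.fin i).2
  haveI : Module.FinitePresentation A (P.X i) := Module.finitePresentation_of_projective A _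
  isLocallyConstant_fdim _

theorem IsGood.dRank_add (h : IsGood P) (p q : ℤ) (hpq : q + 1 = p) (x : PrimeSpectrum A) :
    CohIII.dRank P p x + fdim (P.X q) x = fdim (Q P p) x + fdim (Q P q) x :=
  haveI := h.finite p
  haveI := h.finite q
  FlatCx.DRank.dRank_add P p q hpq x

/-- The dimension of the fibre homology is upper semicontinuous. -/
theorem IsGood.upperSemicontinuous_dRank (h : IsGood P) (p : ℤ) :
    UpperSemicontinuous (CohIII.dRank P p) := by
  intro x y hy
  have hu : ∀ i, ∀ᶠ z in nhds x, fdim (A := A) (Q P i) z ≤ fdim (Q P i) x := fun i =>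
    haveI := h.finite i
    (upperSemicontinuous_fdim (A := A) (Q P i) x (fdim (Q P i) x + 1) (Nat.lt_succ_self _)).mono
      fun _ hz => Nat.le_of_lt_succ hz
  filter_upwards [hu p, hu (p - 1), (h.isLocallyConstant_X (p - 1)).eventually_eq x] with z h1 h2 h3
  have e1 := h.dRank_add p (p - 1) (by omega) x
  have e2 := h.dRank_add p (p - 1) (by omega) z
  omega

/-- The vanishing locus of the fibre homology is open. -/
theorem IsGood.isOpen_dRank_eq_zero (h : IsGood P) (p : ℤ) :
    IsOpen {x | CohIII.dRank P p x = 0} := by
  convert (h.upperSemicontinuous_dRank p).isOpen_preimage 1 using 1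
  ext x
  exact Nat.lt_one_iff.symm

/-- In nonnegative degrees the cokernels are flat. -/
theorem IsGood.flat_Q_nonneg (h : IsGood P) (i : ℤ) (hi : 0 ≤ i) : Module.Flat A (Q P i) := by
  haveI := h.flat i
  refine (FlatCx.Basic.preservesEpi_iff P (i + 1) i rfl).1 ⟨fun {M N} g _ =>
    (ModuleCat.epi_iff_surjective _).2 fun y => ?_⟩
  haveI := ModuleCat.subsingleton_of_isZero (h.pos (i + 1) (by omega) N)
  exact ⟨0, Subsingleton.elim (α := CohIII.T P (i + 1) N) _ _⟩

/-- A degree with no fibre homology: the homology vanishes and both cokernels are flat. -/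
theorem IsGood.of_dRank_eq_zero (h : IsGood P) (p q : ℤ) (hpq : q + 1 = p)
    (hz : ∀ x, CohIII.dRank P p x = 0) :
    Subsingleton (P.homology p) ∧ Module.Flat A (Q P p) ∧ Module.Flat A (Q P q) := by
  haveI := h.finite p
  haveI := h.finite q
  haveI := (h.fin q).2
  have hinj : ∀ x : PrimeSpectrum A,
      Function.Injective ((Dbar P p q).baseChange x.asIdeal.ResidueField) := fun x => by
    have h0 := (Cube.SemiCont.dRank_eq P p q hpq x).symm.trans (hz x)
    exact LinearMap.ker_eq_bot.1 (Submodule.finrank_eq_zero.1 h0)
  obtain ⟨hi, hp, hq⟩ := projective_of_fibres (Dbar P p q) hinj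
  refine ⟨?_, inferInstance, ?_⟩
  · haveI : Subsingleton (LinearMap.ker (Dbar P p q)) := by
      rw [LinearMap.ker_eq_bot.2 hi]; infer_instance
    exact (homologyKerEquiv P hpq).injective.subsingleton
  · haveI : Module.Flat A (P.X q ⧸ LinearMap.range (Dbar P p q)) := inferInstance
    exact Module.Flat.of_linearEquiv (Submodule.quotEquivOfEq _ _ (range_Dbar P hpq)).symm

/-- With both cokernels flat the homology is finite projective of the rank of the fibres. -/
theorem IsGood.homology_projective (h : IsGood P) (p q : ℤ) (hpq : q + 1 = p)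
    (hp : Module.Flat A (Q P p)) (hq : Module.Flat A (Q P q)) :
    Module.Finite A (P.homology p) ∧ Module.Projective A (P.homology p) ∧
      ∀ x, fdim (P.homology p) x = CohIII.dRank P p x := by
  haveI := h.finite p
  haveI := h.finite q
  haveI := (h.fin q).2
  haveI := h.projective_Q p hp
  haveI := h.projective_Q q hq
  haveI : Module.Projective A (P.X q ⧸ LinearMap.range (Dbar P p q)) :=
    Module.Projective.of_equiv (Submodule.quotEquivOfEq _ _ (range_Dbar P hpq)).symm
  obtain ⟨e₁⟩ := _root_.ZarCoh.Exchange.Free.exists_equiv_ker_prod (LinearMap.range (Dbar P p q)).mkQ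
    (Submodule.mkQ_surjective _)
  let R := LinearMap.range (Dbar P p q)
  let i₀ : LinearMap.ker R.mkQ ≃ₗ[A] R := LinearEquiv.ofEq _ _ (Submodule.ker_mkQ R)
  let e₁' : P.X q ≃ₗ[A] R × (P.X q ⧸ R) := e₁.trans (LinearEquiv.prodCongr i₀ (LinearEquiv.refl A _))
  haveI : Module.Projective A R :=
    Module.Projective.of_split (e₁'.symm.toLinearMap ∘ₗ LinearMap.inl A _ _)
      (LinearMap.fst A _ _ ∘ₗ e₁'.toLinearMap) (by ext b; simp)
  obtain ⟨e₂⟩ := _root_.ZarCoh.Exchange.Free.exists_equiv_ker_prod (Dbar P p q).rangeRestrict
    (Dbar P p q).surjective_rangeRestrict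
  let e₃ : P.homology p ≃ₗ[A] LinearMap.ker (Dbar P p q).rangeRestrict :=
    (homologyKerEquiv P hpq).trans (LinearEquiv.ofEq _ _ (LinearMap.ker_rangeRestrict _).symm)
  haveI : Module.Finite A (LinearMap.ker (Dbar P p q).rangeRestrict) := Module.Finite.of_surjective
    (LinearMap.fst A _ _ ∘ₗ e₂.toLinearMap) (Prod.fst_surjective.comp e₂.surjective)
  haveI : Module.Projective A (LinearMap.ker (Dbar P p q).rangeRestrict) :=
    Module.Projective.of_split (e₂.symm.toLinearMap ∘ₗ LinearMap.inl A _ _)
      (LinearMap.fst A _ _ ∘ₗ e₂.toLinearMap) (by ext b; simp)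
  refine ⟨Module.Finite.equiv e₃.symm, Module.Projective.of_equiv e₃.symm, fun x => ?_⟩
  have h1 := h.dRank_add p q hpq x
  have h3 : fdim (A := A) (P.X q) x = fdim (A := A) R x + fdim (Q P q) x := by
    rw [congrFun (fdim_congr (A := A) (P.X q) e₁') x, _root_.ZarCoh.Exchange.Free.fdim_prod,
      congrFun (fdim_congr (A := A) (P.X q ⧸ R) (Submodule.quotEquivOfEq _ _ (range_Dbar P hpq))) x]
  have h4 : fdim (A := A) (Q P p) x =
      fdim (A := A) (LinearMap.ker (Dbar P p q).rangeRestrict) x + fdim (A := A) R x :=
    (congrFun (fdim_congr (A := A) (Q P p) e₂) x).trans (_root_.ZarCoh.Exchange.Free.fdim_prod _ _ x)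
  rw [congrFun (fdim_congr (A := A) (P.homology p) e₃) x]
  omega

/-- Exactness of `T_p` from flat cokernels. -/
theorem IsGood.isLocallyConstant_dRank (h : IsGood P) (p q : ℤ) (hpq : q + 1 = p)
    (hp : Module.Flat A (Q P p)) (hq : Module.Flat A (Q P q)) :
    IsLocallyConstant (CohIII.dRank P p) := by
  obtain ⟨_, _, hdim⟩ := h.homology_projective p q hpq hp hq
  haveI : Module.FinitePresentation A (P.homology p) := Module.finitePresentation_of_projective A _
  rw [← show fdim (A := A) (P.homology p) = CohIII.dRank P p from funext hdim]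
  exact isLocallyConstant_fdim _

open IntTheory.ChiConst in
/-- The truncated alternating sum is locally constant up to one rank. -/
theorem IsGood.isLocallyConstant_S (h : IsGood P) (n : ℕ) :
    IsLocallyConstant fun x => S P n x - (-1 : ℤ) ^ n *
      ((fdim (P.X (-(n : ℤ))) x : ℤ) - fdim (Q P (-(n : ℤ))) x) := by
  have hX : ∀ i, IsLocallyConstant fun x => (fdim (P.X i) x : ℤ) := fun i =>
    (h.isLocallyConstant_X i).comp fun n : ℕ => (n : ℤ)
  induction n with
  | zero =>
    haveI := h.flat_Q_nonneg (-((0 : ℕ) : ℤ)) (by simp)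
    haveI := h.finitePresentation_Q (-((0 : ℕ) : ℤ))
    have hQ : IsLocallyConstant fun x => (fdim (Q P (-((0 : ℕ) : ℤ))) x : ℤ) :=
      (isLocallyConstant_fdim (A := A) _).comp fun n : ℕ => (n : ℤ)
    simpa [S, Pi.sub_def, Pi.neg_def] using ((hX (-((0 : ℕ) : ℤ))).sub hQ).neg
  | succ n ih =>
    refine (funext fun x => ?_ : (fun x => _) = fun x => (S P n x - (-1 : ℤ) ^ n *
      ((fdim (P.X (-(n : ℤ))) x : ℤ) - fdim (Q P (-(n : ℤ))) x)) +
        (-1 : ℤ) ^ n * (fdim (P.X (-(n : ℤ))) x : ℤ)) ▸
      ih.add ((hX (-(n : ℤ))).comp fun z => (-1 : ℤ) ^ n * z)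
    have e := h.dRank_add (-(n : ℤ)) (-((n + 1 : ℕ) : ℤ)) (by push_cast; omega) x
    have he : (CohIII.dRank P (-(n : ℤ)) x : ℤ) = (fdim (Q P (-(n : ℤ))) x : ℤ) +
        fdim (Q P (-((n + 1 : ℕ) : ℤ))) x - fdim (P.X (-((n + 1 : ℕ) : ℤ))) x := by
      rw [eq_sub_iff_add_eq]; exact_mod_cast e
    simp only [S, Finset.sum_range_succ, he, pow_succ]
    ring

/-- The Euler characteristic of the fibres is locally constant. -/
theorem IsGood.exists_euler (h : IsGood P) :
    ∃ N : ℕ, IsLocallyConstant (IntTheory.ChiConst.S P N) ∧
      ∀ n : ℕ, N ≤ n → ∀ x, CohIII.dRank P (-(n : ℤ)) x = 0 := by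
  obtain ⟨b, hb⟩ := h.bdd
  obtain ⟨N, hN⟩ : ∃ N : ℕ, -(N : ℤ) < b := ⟨(1 - b).toNat, by omega⟩
  refine ⟨N, ?_, fun n hn x => IntTheory.ChiConst.dRank_eq_zero P (hb _ (by omega)) x⟩
  haveI := ModuleCat.isZero_iff_subsingleton.1 (hb _ hN)
  have h1 : ∀ x : PrimeSpectrum A, fdim (P.X (-(N : ℤ))) x = 0 := fun x =>
    Module.finrank_zero_of_subsingleton
  have : Subsingleton (Q P (-(N : ℤ))) := (Submodule.mkQ_surjective _).subsingleton
  have h2 : ∀ x : PrimeSpectrum A, fdim (Q P (-(N : ℤ))) x = 0 := fun x =>
    Module.finrank_zero_of_subsingleton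
  simpa [h1, h2] using h.isLocallyConstant_S N

end Complex

end Groth.Agent.Lib.ExchangeFP29.Algebra
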