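import Groth.Agent.Lib.ExchangeFP29.Algebra
import Groth.Agent.Lib.FlatCx.RightExact
import Groth.Agent.Lib.Exchange.Proper

/-!
# Fibres at which the kernel spans the kernel of the fibre
-/

set_option autoImplicit false
set_option linter.style.haveILetI false
universe u

open CategoryTheory CategoryTheory.Limits
open scoped TensorProduct
open Groth.Agent.Lib Groth.Agent.Lib.FlatCx.Basic Groth.Agent.Lib.FlatCx.Rank
open Groth.Agent.Lib.FlatCx.HKer

namespace Groth.Agent.Lib.ExchangeFP29.SpanFibre

section Linear

variable {A : Type u} [CommRing A] {C N : Type u} [AddCommGroup C] [Module A C] [AddCommGroup N]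
  [Module A N] (l : C →ₗ[A] N)

/-- The kernel spans the kernel of the fibre at `x`. -/
def SpanAt (x : PrimeSpectrum A) : Prop :=
  ∀ z, l.lTensor x.asIdeal.ResidueField z = 0 →
    z ∈ LinearMap.range ((LinearMap.ker l).subtype.lTensor x.asIdeal.ResidueField)

variable [Module.Finite A C]

/-- A finitely generated part of the kernel spanning the kernel of the fibre. -/
theorem exists_fg {x : PrimeSpectrum A} (h : SpanAt l x) :
    ∃ (K₀ : Submodule A C) (hK : K₀ ≤ LinearMap.ker l), K₀.FG ∧
      Function.Injective ((K₀.liftQ l hK).baseChange x.asIdeal.ResidueField) := by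
  classical
  let k := x.asIdeal.ResidueField
  haveI : Module.Finite k (k ⊗[A] C) := inferInstance
  haveI : Module.Finite k (LinearMap.ker (l.baseChange k)) :=
    FiniteDimensional.finiteDimensional_submodule _
  obtain ⟨S, hS⟩ := (Module.Finite.fg_top : (⊤ : Submodule k (LinearMap.ker (l.baseChange k))).FG)
  have hgen : ∀ z : LinearMap.ker (l.baseChange k), ∃ w : k ⊗[A] LinearMap.ker l,
      (LinearMap.ker l).subtype.lTensor k w = z.1 := fun z => h z.1 z.2
  choose w hw using hgen
  choose T hT using fun z : LinearMap.ker (l.baseChange k) => TensorProduct.exists_finset (w z)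
  let gens : Finset C := S.biUnion fun z => (T z).image fun p => (p.2 : C)
  let K₀ := Submodule.span A (gens : Set C)
  have hK : K₀ ≤ LinearMap.ker l := by
    rw [Submodule.span_le]
    intro c hc
    simp only [gens, Finset.coe_biUnion, Finset.coe_image, Set.mem_iUnion, Set.mem_image] at hc
    obtain ⟨z, -, p, -, rfl⟩ := hc
    exact p.2.2
  refine ⟨K₀, hK, ⟨gens, rfl⟩, ?_⟩
  let M : Submodule k (k ⊗[A] C) := LinearMap.ker ((K₀.mkQ).baseChange k)
  have hle : ∀ z ∈ S, (z : k ⊗[A] C) ∈ M := by
    intro z hz
    rw [LinearMap.mem_ker, ← hw z, hT z, map_sum]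
    show K₀.mkQ.lTensor k _ = 0
    rw [map_sum]
    refine Finset.sum_eq_zero fun p hp => ?_
    rw [LinearMap.lTensor_tmul, LinearMap.lTensor_tmul]
    have : ((p.2 : C) : C) ∈ K₀ := Submodule.subset_span (by
      simp only [gens, Finset.coe_biUnion, Finset.coe_image, Set.mem_iUnion, Set.mem_image]
      exact ⟨z, hz, p, hp, rfl⟩)
    rw [show K₀.mkQ ((LinearMap.ker l).subtype p.2) = 0 from (Submodule.Quotient.mk_eq_zero _).2 this,
      TensorProduct.tmul_zero]
  have hker : ∀ z : LinearMap.ker (l.baseChange k), (z : k ⊗[A] C) ∈ M := by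
    intro z
    have hz : z ∈ Submodule.span k (S : Set (LinearMap.ker (l.baseChange k))) := hS ▸ trivial
    induction hz using Submodule.span_induction with
    | mem y hy => exact hle y hy
    | zero => exact zero_mem _
    | add a b _ _ ha hb => exact add_mem ha hb
    | smul c a _ ha => exact M.smul_mem c ha
  rw [injective_iff_map_eq_zero]
  intro ξ hξ
  obtain ⟨z, rfl⟩ := LinearMap.lTensor_surjective k (Submodule.mkQ_surjective K₀) ξ
  have hz : l.baseChange k z = 0 := by
    rw [LinearMap.baseChange_eq_ltensor] at hξ ⊢
    rwa [← LinearMap.lTensor_comp_apply, Submodule.liftQ_mkQ] at hξ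
  exact hker ⟨z, hz⟩

variable [Module.Finite A N] [Module.Projective A N]

/-- Spanning at every point gives a projective cokernel. -/
theorem projective_coker (h : ∀ x, SpanAt l x) :
    Module.Projective A (N ⧸ LinearMap.range l) := by
  haveI : Module.FinitePresentation A N := Module.finitePresentation_of_projective A N
  have hfg : (LinearMap.range l).FG := by
    rw [LinearMap.range_eq_map]
    exact (Module.Finite.fg_top (R := A) (M := C)).map l
  haveI : Module.FinitePresentation A (N ⧸ LinearMap.range l) :=
    Module.finitePresentation_of_surjective (LinearMap.range l).mkQ (Submodule.mkQ_surjective _)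
      (by rwa [Submodule.ker_mkQ])
  refine Module.projective_of_localization_maximal fun m hm => ?_
  obtain ⟨K₀, hK, -, hi⟩ := exists_fg l (h ⟨m, hm.isPrime⟩)
  let l' := K₀.liftQ l hK
  have hr : LinearMap.range l' = LinearMap.range l := Submodule.range_liftQ _ _ _
  let L := Localization.AtPrime m
  let k := IsLocalRing.ResidueField L
  have hkL : Function.Injective ((l'.baseChange L).lTensor k) := by
    have hsq : ∀ z, TensorProduct.AlgebraTensorModule.cancelBaseChange A L L k N
        ((l'.baseChange L).lTensor k z) =
        l'.lTensor k (TensorProduct.AlgebraTensorModule.cancelBaseChange A L L k (C ⧸ K₀) z) := by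
      intro z
      induction z using TensorProduct.induction_on with
      | zero => simp
      | tmul a w =>
        induction w using TensorProduct.induction_on with
        | zero => simp
        | tmul b x => simp
        | add a c ha hc => simp only [TensorProduct.tmul_add, map_add, ha, hc]
      | add a c ha hc => simp only [map_add, ha, hc]
    intro a b hab
    apply (TensorProduct.AlgebraTensorModule.cancelBaseChange A L L k (C ⧸ K₀)).injective
    apply hi
    show l'.lTensor k _ = l'.lTensor k _
    rw [← hsq, ← hsq, hab]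
  haveI : Module.Free L (L ⊗[A] N) := Module.free_of_flat_of_isLocalRing
  have hfree : Module.Free L (L ⊗[A] (N ⧸ LinearMap.range l')) :=
    Module.free_of_lTensor_residueField_injective
      (l'.baseChange L) ((LinearMap.range l').mkQ.baseChange L)
      (LinearMap.lTensor_surjective L (Submodule.mkQ_surjective _))
      (lTensor_exact L (LinearMap.exact_map_mkQ_range l') (Submodule.mkQ_surjective _)) hkL
  haveI : Module.Free L (L ⊗[A] (N ⧸ LinearMap.range l)) :=
    Module.Free.of_equiv ((Submodule.quotEquivOfEq _ _ hr).baseChange A L)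
  exact Module.Projective.of_equiv
    (LocalizedModule.equivTensorProduct m.primeCompl (N ⧸ LinearMap.range l)).symm

/-- Spanning is an open condition. -/
theorem eventually_spanAt {x : PrimeSpectrum A} (h : SpanAt l x) : ∀ᶠ y in nhds x, SpanAt l y := by
  obtain ⟨K₀, hK, -, hi⟩ := exists_fg l h
  let l' := K₀.liftQ l hK
  have key : ∀ y : PrimeSpectrum A,
      Module.finrank y.asIdeal.ResidueField (LinearMap.ker (l'.baseChange y.asIdeal.ResidueField)) +
        fdim (A := A) N y = fdim (A := A) (C ⧸ K₀) y + fdim (A := A) (N ⧸ LinearMap.range l') y := by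
    intro y
    let k := y.asIdeal.ResidueField
    haveI : Module.Finite k (k ⊗[A] (C ⧸ K₀)) := inferInstance
    have e : ((k ⊗[A] N) ⧸ LinearMap.range (l'.baseChange k)) ≃ₗ[k]
        k ⊗[A] (N ⧸ LinearMap.range l') :=
      (Submodule.quotEquivOfEq _ _ (by
        refine SetLike.ext fun w => ?_
        exact ((_root_.lTensor_exact k (LinearMap.exact_map_mkQ_range l')
          (Submodule.mkQ_surjective _)) w).symm)).trans
        (LinearMap.quotKerEquivOfSurjective ((LinearMap.range l').mkQ.baseChange k)
          (LinearMap.lTensor_surjective k (Submodule.mkQ_surjective _)))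
    have := FlatCx.Ker.finrank_ker_add_finrank (l'.baseChange k)
    rw [e.finrank_eq] at this
    exact this
  haveI : Module.FinitePresentation A N := Module.finitePresentation_of_projective A N
  have hu : ∀ (M : Type u) [AddCommGroup M] [Module A M] [Module.Finite A M],
      ∀ᶠ z in nhds x, fdim (A := A) M z ≤ fdim (A := A) M x := fun M _ _ _ =>
    (upperSemicontinuous_fdim (A := A) M x (fdim M x + 1) (Nat.lt_succ_self _)).mono
      fun _ hz => Nat.le_of_lt_succ hz
  filter_upwards [hu (C ⧸ K₀), hu (N ⧸ LinearMap.range l'),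
    (isLocallyConstant_fdim (A := A) N).eventually_eq x] with y h1 h2 h3
  have e1 := key x
  have e2 := key y
  have h0 : Module.finrank x.asIdeal.ResidueField
      (LinearMap.ker (l'.baseChange x.asIdeal.ResidueField)) = 0 := by
    rw [LinearMap.ker_eq_bot.2 hi, finrank_bot]
  have hy0 : LinearMap.ker (l'.baseChange y.asIdeal.ResidueField) = ⊥ := by
    haveI : Module.Finite y.asIdeal.ResidueField
        (LinearMap.ker (l'.baseChange y.asIdeal.ResidueField)) :=
      FiniteDimensional.finiteDimensional_submodule _
    exact Submodule.finrank_eq_zero.1 (by omega)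
  intro z hz
  have hz' : K₀.mkQ.lTensor y.asIdeal.ResidueField z = 0 := by
    apply LinearMap.ker_eq_bot.1 hy0
    rw [map_zero]
    show l'.lTensor _ (K₀.mkQ.lTensor _ z) = 0
    rw [← LinearMap.lTensor_comp_apply, Submodule.liftQ_mkQ]
    exact hz
  obtain ⟨v, hv⟩ := (_root_.lTensor_exact _ (LinearMap.exact_subtype_mkQ K₀)
    (Submodule.mkQ_surjective _) z).1 hz'
  refine ⟨(Submodule.inclusion hK).lTensor _ v, ?_⟩
  rw [← LinearMap.lTensor_comp_apply]
  exact hv

end Linear

section Functor

variable {A : Type u} [CommRing A]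

/-- Every element of `G(M)` is a sum of images of elements of `G(A)`. -/
def Span (G : ModuleCat.{u} A ⥤ AddCommGrpCat.{u}) (M : ModuleCat.{u} A) : Prop :=
  ∀ x : G.obj M, x ∈ AddSubgroup.closure
    {y : G.obj M | ∃ (φ : ModuleCat.of A A ⟶ M) (t : G.obj (ModuleCat.of A A)), G.map φ t = y}

/-- Spanning is invariant under natural isomorphisms. -/
theorem Span.of_iso {G G' : ModuleCat.{u} A ⥤ AddCommGrpCat.{u}} (e : G ≅ G') {M : ModuleCat.{u} A}
    (h : Span G M) : Span G' M := by
  intro x'
  obtain ⟨x, rfl⟩ : ∃ x, (e.hom.app M).hom x = x' :=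
    (ConcreteCategory.bijective_of_isIso (e.hom.app M)).2 x'
  refine (AddSubgroup.closure_le (K := (AddSubgroup.closure _).comap (e.hom.app M).hom)).2 ?_ (h x)
  rintro y ⟨φ, t, rfl⟩
  exact AddSubgroup.subset_closure ⟨φ, (e.hom.app _).hom t,
    (ConcreteCategory.congr_hom (e.hom.naturality φ) t).symm⟩

variable (P : ChainComplex (ModuleCat.{u} A) ℤ) (p q : ℤ) (hpq : q + 1 = p)

/-- The map picking an element. -/
noncomputable def elemHom (M : ModuleCat.{u} A) (m : M) : ModuleCat.of A A ⟶ M :=
  ModuleCat.ofHom (LinearMap.toSpanSingleton A M m)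

include hpq in
/-- Spanning for `T_p` is spanning of the kernel of `Dbar`. -/
theorem span_iff (M : ModuleCat.{u} A) :
    Span (CohIII.TFun P p ⋙ forget₂ (ModuleCat.{u} A) AddCommGrpCat.{u}) M ↔
      ∀ z, (Dbar P p q).lTensor M z = 0 →
        z ∈ LinearMap.range ((LinearMap.ker (Dbar P p q)).subtype.lTensor M) := by
  let G := CohIII.TFun P p ⋙ forget₂ (ModuleCat.{u} A) AddCommGrpCat.{u}
  let K := LinearMap.ker (Dbar P p q)
  let sub := K.subtype
  have hsurj : ∀ t : CohIII.T P p (ModuleCat.of A A),
      ∃ a, FlatCx.RightExact.η P (ModuleCat.of A A) p a = t := fun t => by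
    let z := (TKerEquiv P (ModuleCat.of A A) hpq t).1
    have hz : (Dbar P p q).rTensor (ModuleCat.of A A) z = 0 := (TKerEquiv P _ hpq t).2
    have hz' : Dbar P p q (TensorProduct.rid A _ z) = 0 := by
      rw [← show TensorProduct.rid A _ ((Dbar P p q).rTensor A z) =
        Dbar P p q (TensorProduct.rid A _ z) from by
          induction z using TensorProduct.induction_on with
          | zero => simp
          | tmul c r => simp
          | add a b ha hb => simp [map_add, ha, hb]]
      exact (congrArg _ hz).trans (map_zero _)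
    let w : P.homology p ⊗[A] A := (homologyKerEquiv P hpq).symm ⟨_, hz'⟩ ⊗ₜ 1
    refine ⟨w, (TKerEquiv P _ hpq).injective (Subtype.ext ?_)⟩
    rw [FlatCx.RightExact.TKerEquiv_η]
    show sub.rTensor A ((homologyKerEquiv P hpq).toLinearMap.rTensor A w) = z
    rw [LinearMap.rTensor_tmul, LinearEquiv.coe_coe, LinearEquiv.apply_symm_apply,
      LinearMap.rTensor_tmul]
    exact (TensorProduct.rid A _).injective (by simp [sub, K])
  constructor
  · intro h z hz
    let z' := TensorProduct.comm A M (Q P p) z
    have hz' : (Dbar P p q).rTensor M z' = 0 := by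
      rw [show (Dbar P p q).rTensor M z' = TensorProduct.comm A M (P.X q) ((Dbar P p q).lTensor M z)
        from LinearMap.congr_fun (LinearMap.rTensor_comp_comm (Dbar P p q)) z, hz, map_zero]
    let x := (TKerEquiv P M hpq).symm ⟨z', hz'⟩
    suffices hx : (TKerEquiv P M hpq x).1 ∈ LinearMap.range (sub.rTensor M) by
      rw [LinearEquiv.apply_symm_apply] at hx
      obtain ⟨v, hv⟩ := hx
      refine ⟨TensorProduct.comm A K M v, (TensorProduct.comm A M (Q P p)).injective ?_⟩
      rw [← show sub.rTensor M (TensorProduct.comm A M K (TensorProduct.comm A K M v)) =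
        TensorProduct.comm A M (Q P p) (sub.lTensor M (TensorProduct.comm A K M v)) from
          LinearMap.congr_fun (LinearMap.rTensor_comp_comm sub) _]
      simpa using hv
    refine (AddSubgroup.closure_le (K := ((LinearMap.range (sub.rTensor M)).toAddSubgroup.comap
      ((LinearMap.ker ((Dbar P p q).rTensor M)).subtype.toAddMonoidHom.comp
        (TKerEquiv P M hpq).toLinearMap.toAddMonoidHom)))).2 ?_ (h x)
    rintro y ⟨φ, t, rfl⟩
    obtain ⟨a, rfl⟩ := hsurj t
    show (TKerEquiv P M hpq ((CohIII.TFun P p).map φ (FlatCx.RightExact.η P _ p a))).1 ∈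
      LinearMap.range (sub.rTensor M)
    rw [FlatCx.RightExact.η_natural, FlatCx.RightExact.TKerEquiv_η]
    exact ⟨_, rfl⟩
  · intro h x
    let z := (TKerEquiv P M hpq x).1
    obtain ⟨v, hv⟩ := h ((TensorProduct.comm A M (Q P p)).symm z) (by
      apply (TensorProduct.comm A M (P.X q)).injective
      rw [map_zero, ← show (Dbar P p q).rTensor M
          (TensorProduct.comm A M (Q P p) ((TensorProduct.comm A M (Q P p)).symm z)) =
          TensorProduct.comm A M (P.X q) ((Dbar P p q).lTensor M ((TensorProduct.comm A M (Q P p)).symm z))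
        from LinearMap.congr_fun (LinearMap.rTensor_comp_comm (Dbar P p q)) _,
        LinearEquiv.apply_symm_apply]
      exact (TKerEquiv P M hpq x).2)
    let a := (homologyKerEquiv P hpq).symm.toLinearMap.rTensor M (TensorProduct.comm A M K v)
    have hx : FlatCx.RightExact.η P M p a = x := by
      apply (TKerEquiv P M hpq).injective
      refine Subtype.ext ?_
      rw [FlatCx.RightExact.TKerEquiv_η]
      show sub.rTensor M ((homologyKerEquiv P hpq).toLinearMap.rTensor M a) = z
      rw [← LinearMap.rTensor_comp_apply M (homologyKerEquiv P hpq).toLinearMap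
        (homologyKerEquiv P hpq).symm.toLinearMap,
        LinearEquiv.comp_symm, LinearMap.rTensor_id, LinearMap.id_apply,
        show sub.rTensor M (TensorProduct.comm A M K v) =
          TensorProduct.comm A M (Q P p) (sub.lTensor M v) from
            LinearMap.congr_fun (LinearMap.rTensor_comp_comm sub) v, hv, LinearEquiv.apply_symm_apply]
    rw [← hx]
    clear hx
    induction a using TensorProduct.induction_on with
    | zero => rw [map_zero]; exact zero_mem _
    | tmul c m =>
      refine AddSubgroup.subset_closure ⟨elemHom M m,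
        FlatCx.RightExact.η P (ModuleCat.of A A) p (c ⊗ₜ 1), ?_⟩
      show (CohIII.TFun P p).map (elemHom M m) _ = _
      rw [FlatCx.RightExact.η_natural, LinearMap.lTensor_tmul]
      simp [elemHom]
      all_goals rfl
    | add a b ha hb => rw [map_add]; exact add_mem ha hb

variable {P} {p q}

include hpq in
/-- Spanning at every point makes the next cokernel flat. -/
theorem flat_Q (hP : Algebra.IsGood P)
    (h : ∀ x : PrimeSpectrum A, Span (CohIII.TFun P p ⋙ forget₂ (ModuleCat.{u} A) AddCommGrpCat.{u})
      (ModuleCat.of A x.asIdeal.ResidueField)) :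
    Module.Flat A (Q P q) := by
  haveI := hP.finite p
  haveI := hP.finite q
  haveI := (hP.fin q).2
  haveI := projective_coker (Dbar P p q) fun x =>
    (span_iff P p q hpq (ModuleCat.of A x.asIdeal.ResidueField)).1 (h x)
  haveI : Module.Flat A (P.X q ⧸ LinearMap.range (Dbar P p q)) := inferInstance
  exact Module.Flat.of_linearEquiv (Submodule.quotEquivOfEq _ _ (range_Dbar P hpq)).symm

include hpq in
/-- Spanning is open. -/
theorem eventually_span (hP : Algebra.IsGood P) {x : PrimeSpectrum A}
    (h : Span (CohIII.TFun P p ⋙ forget₂ (ModuleCat.{u} A) AddCommGrpCat.{u})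
      (ModuleCat.of A x.asIdeal.ResidueField)) :
    ∀ᶠ y in nhds x, Span (CohIII.TFun P p ⋙ forget₂ (ModuleCat.{u} A) AddCommGrpCat.{u})
      (ModuleCat.of A y.asIdeal.ResidueField) := by
  haveI := hP.finite p
  haveI := hP.finite q
  haveI := (hP.fin q).2
  filter_upwards [eventually_spanAt (Dbar P p q)
    ((span_iff P p q hpq (ModuleCat.of A x.asIdeal.ResidueField)).1 h)] with y hy
  exact (span_iff P p q hpq (ModuleCat.of A y.asIdeal.ResidueField)).2 hy

end Functor

end Groth.Agent.Lib.ExchangeFP29.SpanFibre
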