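import Groth.Agent.Lib.Exchange.BaseChange
import Groth.Agent.Lib.Exchange.Proper
import Groth.Agent.Lib.CechRes.Flat
import Groth.Agent.Lib.FlatCx.Ker
import Groth.Agent.Lib.ProjCoh.CechNat
import Groth.Agent.Lib.ExchangeFP29.SpanFibre

/-!
# Base change of global sections when `M ↦ H⁰(X, F ⊗ M)` is right exact
-/

set_option autoImplicit false
set_option linter.style.haveILetI false
universe u

open CategoryTheory Limits AlgebraicGeometry Opposite TopologicalSpace
open scoped TensorProduct
open Groth.Agent.Lib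
open _root_.ZarCoh.Exchange _root_.ZarCoh.Exchange.Complex _root_.ZarCoh.FlatBC
open Groth.Agent.Lib.CechRes.Sec (rho secA resA toSec ofSec)
open Groth.Agent.Lib.Cech.Complex (inter inter_le_face Cochain dC)

namespace Groth.Agent.Lib.ExchangeFP29.BC0

noncomputable section

section Res

variable (A : Type u) [CommRing A] {X : Scheme.{u}} [X.Over (Spec (CommRingCat.of A))]
  {ι : Type u} (U : ι → X.Opens) (F : X.Modules)

local notation "pX" => (X ↘ Spec (CommRingCat.of A))

/-- The restriction of global sections to the members of a family. -/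
def res0 : ((secA pX ⊤).obj F : Type u) →ₗ[A] CM A U F 0 :=
  LinearMap.pi fun i => ((resA pX (le_top : inter U i ≤ ⊤)).app F).hom

theorem res0_apply (m : (secA pX ⊤).obj F) (i : Fin 1 → ι) :
    res0 A U F m i =
      toSec pX (F.presheaf.map (homOfLE (le_top : inter U i ≤ ⊤)).op (ofSec pX m)) := rfl

theorem cover_inter (hcov : iSup U = ⊤) : ⨆ i : Fin 1 → ι, inter U i = ⊤ := by
  refine top_le_iff.1 (hcov ▸ iSup_le fun j => le_trans ?_ (le_iSup _ fun _ => j))
  exact le_iInf fun _ => le_rfl

theorem res0_injective (hcov : iSup U = ⊤) : Function.Injective (res0 A U F) := fun m m' h =>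
  TopCat.Sheaf.eq_of_locally_eq' ⟨F.presheaf, F.isSheaf⟩ (fun i : Fin 1 → ι => inter U i) ⊤
    (fun i => homOfLE le_top) (cover_inter U hcov).ge (ofSec pX m) (ofSec pX m') fun i => congrFun h i

theorem dA_zero_apply (c : CM A U F 0) (i : Fin 2 → ι) :
    dA A U F 0 c i = toSec pX
      (F.presheaf.map (homOfLE (inter_le_face U i 0)).op (ofSec pX (c (i ∘ (0 : Fin 2).succAbove))) -
        F.presheaf.map (homOfLE (inter_le_face U i 1)).op (ofSec pX (c (i ∘ (1 : Fin 2).succAbove)))) := by
  simp only [dA, LinearMap.pi_apply, LinearMap.sum_apply, LinearMap.smul_apply, LinearMap.comp_apply,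
    LinearMap.proj_apply]
  refine (Fin.sum_univ_two _).trans ?_
  simp only [Fin.val_zero, Fin.val_one, pow_zero, one_smul, pow_one, neg_smul]
  exact (sub_eq_add_neg _ _).symm

theorem map_congr (c : CM A U F 0) {i i' : Fin 1 → ι} (h : i = i') {W : X.Opens}
    (hW : W ≤ inter U i) (hW' : W ≤ inter U i') :
    F.presheaf.map (homOfLE hW).op (ofSec pX (c i)) =
      F.presheaf.map (homOfLE hW').op (ofSec pX (c i')) := by
  subst h; rfl

theorem dA_res0 (m : (secA pX ⊤).obj F) : dA A U F 0 (res0 A U F m) = 0 := by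
  funext i
  rw [dA_zero_apply, res0_apply, res0_apply]
  refine sub_eq_zero.2 ?_
  show F.presheaf.map _ (F.presheaf.map _ (ofSec pX m)) = F.presheaf.map _ (F.presheaf.map _ (ofSec pX m))
  rw [← ConcreteCategory.comp_apply, ← Functor.map_comp, ← ConcreteCategory.comp_apply,
    ← Functor.map_comp]
  rfl

theorem exists_res0 (hcov : iSup U = ⊤) (c : CM A U F 0) (hc : dA A U F 0 c = 0) :
    ∃ m, res0 A U F m = c := by
  have hcompat : TopCat.Presheaf.IsCompatible F.presheaf (fun i : Fin 1 → ι => inter U i)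
      (fun i => ofSec pX (c i)) := by
    intro a b
    let i : Fin 2 → ι := ![a 0, b 0]
    have ha : i ∘ (1 : Fin 2).succAbove = a := funext fun z => by
      rw [Subsingleton.elim z 0]; rfl
    have hb : i ∘ (0 : Fin 2).succAbove = b := funext fun z => by
      rw [Subsingleton.elim z 0]; rfl
    have hle : inter U a ⊓ inter U b ≤ inter U i := le_iInf fun z => by
      fin_cases z
      · exact inf_le_left.trans (iInf_le _ 0)
      · exact inf_le_right.trans (iInf_le _ 0)
    have h0 : F.presheaf.map (homOfLE (inter_le_face U i 0)).op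
        (ofSec pX (c (i ∘ (0 : Fin 2).succAbove))) =
        F.presheaf.map (homOfLE (inter_le_face U i 1)).op
          (ofSec pX (c (i ∘ (1 : Fin 2).succAbove))) :=
      sub_eq_zero.1 ((dA_zero_apply A U F c i).symm.trans (congrFun hc i))
    have h1 := congrArg (F.presheaf.map (homOfLE hle).op) h0
    rw [← ConcreteCategory.comp_apply, ← Functor.map_comp, ← ConcreteCategory.comp_apply,
      ← Functor.map_comp] at h1
    refine ((map_congr A U F c ha.symm inf_le_left
      (hle.trans (inter_le_face U i 1))).trans ?_).trans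
      (map_congr A U F c hb (hle.trans (inter_le_face U i 0)) inf_le_right)
    exact h1.symm
  obtain ⟨m, hm, -⟩ := TopCat.Sheaf.existsUnique_gluing' ⟨F.presheaf, F.isSheaf⟩
    (fun i : Fin 1 → ι => inter U i) ⊤ (fun i => homOfLE le_top) (cover_inter U hcov).ge
    (fun i => ofSec pX (c i)) hcompat
  exact ⟨toSec pX m, funext hm⟩

variable [Finite ι] (hU : ∀ {q : ℕ} (i : Fin (q + 1) → ι), IsAffineOpen (inter U i))
  [F.IsQuasicoherent] (hcov : iSup U = ⊤)

include hU hcov in
/-- Right exactness of `M ↦ H⁰(X, F ⊗ M)` makes the first Čech cokernel flat. -/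
theorem flat_coker_dA
    (h : (CohIII.tensorAFunctor A F ⋙ CohIII.HAb X 0).PreservesEpimorphisms)
    [Module.Flat A (CM A U F 1)] :
    Module.Flat A (CM A U F 1 ⧸ LinearMap.range (dA A U F 0)) := by
  obtain ⟨e⟩ := Compare.nonempty_natIso A U F hU hcov 0
  haveI hT := (Proper.preservesEpi_iff e).1 h
  let f := dA A U F 0
  rw [Module.Flat.iff_lTensor_preserves_injective_linearMap]
  intro N M _ _ _ _ k hk
  rw [injective_iff_map_eq_zero]
  intro x hx
  obtain ⟨z, rfl⟩ := LinearMap.rTensor_surjective N (Submodule.mkQ_surjective _) x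
  rw [FlatCx.Basic.lTensor_rTensor] at hx
  have hq : ∀ (P : Type u) [AddCommGroup P] [Module A P],
      Function.Exact (f.rTensor P) ((LinearMap.range f).mkQ.rTensor P) :=
    fun P _ _ => _root_.rTensor_exact P (LinearMap.exact_map_mkQ_range _) (Submodule.mkQ_surjective _)
  obtain ⟨w, hw⟩ := (hq M _).1 hx
  let π : ModuleCat.of A M ⟶ ModuleCat.of A (M ⧸ LinearMap.range k) :=
    ModuleCat.ofHom (LinearMap.range k).mkQ
  haveI : Epi π := (ModuleCat.epi_iff_surjective π).2 (Submodule.mkQ_surjective _)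
  let w'' := π.hom.lTensor (CM A U F 0) w
  have hw'' : ((Compare.K A U F (ModuleCat.of A (M ⧸ LinearMap.range k))).d ((0 : ℕ) : ℤ)
      ((1 : ℕ) : ℤ)).hom w'' = 0 := by
    rw [Compare.K_d]
    show f.rTensor _ (π.hom.lTensor _ w) = 0
    rw [← LinearMap.comp_apply, LinearMap.rTensor_comp_lTensor, ← LinearMap.lTensor_comp_rTensor,
      LinearMap.comp_apply, hw, ← LinearMap.lTensor_comp_apply,
      show π.hom ∘ₗ k = 0 from (LinearMap.range k).mkQ_apply |> fun _ => LinearMap.range_mkQ_comp k,
      LinearMap.lTensor_zero, LinearMap.zero_apply]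
  obtain ⟨t, ht⟩ := (ModuleCat.epi_iff_surjective _).1
    (inferInstance : Epi ((CohIII.TFun (C A U F) ((0 : ℕ) : ℤ)).map π))
    (Compare.toT A U F (ModuleCat.of A (M ⧸ LinearMap.range k)) 0 ⟨w'', hw''⟩)
  obtain ⟨v, rfl⟩ := Compare.toT_surjective A U F (ModuleCat.of A M) 0 t
  let vg : Compare.Z A U F (ModuleCat.of A (M ⧸ LinearMap.range k)) 0 :=
    ⟨((CohIII.tensorMap (C A U F) π).f ((0 : ℕ) : ℤ)).hom v.1, by
      show ((CohIII.tensorMap (C A U F) π).f _ ≫ (Compare.K A U F _).d _ _).hom v.1 = 0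
      rw [(CohIII.tensorMap (C A U F) π).comm]
      exact (congrArg _ v.2).trans (map_zero _)⟩
  have h1 : (CohIII.TFun (C A U F) ((0 : ℕ) : ℤ)).map π (Compare.toT A U F _ 0 v) =
      Compare.toT A U F _ 0 vg :=
    FlatCx.Elem.homologyMap_cls (CohIII.tensorMap (C A U F) π) (Compare.next_eq 0) v vg rfl
  have h2 := (h1.symm.trans ht)
  have h3 : π.hom.lTensor (CM A U F 0) v.1 = w'' := by
    have h4 : Compare.toT A U F _ 0 (vg - ⟨w'', hw''⟩) = 0 := by rw [map_sub, h2, sub_self]
    obtain ⟨y, hy⟩ := (FlatCx.Elem.cls_eq_zero_iff (K := Compare.K A U F _) Compare.prev_zero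
      (Compare.next_eq 0) (vg - ⟨w'', hw''⟩)).1 h4
    haveI : Subsingleton ((Compare.K A U F (ModuleCat.of A (M ⧸ LinearMap.range k))).X
        (Int.negSucc 0)) :=
      ModuleCat.subsingleton_of_isZero ((MonoidalCategory.tensorRight _).map_isZero
        (isZero_C A U F _ (Int.negSucc_lt_zero 0)))
    rw [Subsingleton.elim y 0, map_zero] at hy
    exact sub_eq_zero.1 hy.symm
  let v₀ : CM A U F 0 ⊗[A] M := v.1
  have h3' : π.hom.lTensor (CM A U F 0) v₀ = w'' := h3
  have h5 : π.hom.lTensor (CM A U F 0) (w - v₀) = 0 := by rw [map_sub, h3', sub_self]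
  obtain ⟨w', hw'⟩ := (lTensor_exact (CM A U F 0) (LinearMap.exact_map_mkQ_range k)
    (Submodule.mkQ_surjective _) _).1 h5
  have hv : f.rTensor M v₀ = 0 := (Compare.K_d A U F (ModuleCat.of A M) 0 v.1).symm.trans v.2
  have hz : z = f.rTensor N w' := by
    apply Module.Flat.lTensor_preserves_injective_linearMap (M := CM A U F 1) k hk
    rw [← hw, ← LinearMap.comp_apply (k.lTensor _) (f.rTensor N), LinearMap.lTensor_comp_rTensor,
      ← LinearMap.rTensor_comp_lTensor, LinearMap.comp_apply, hw', map_sub, hv, sub_zero]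
  exact hz ▸ (hq N).apply_apply_eq_zero w'

omit [Finite ι] [F.IsQuasicoherent] in
theorem toT_map {N M : ModuleCat.{u} A} (φ : N ⟶ M) (v : Compare.Z A U F N 0) :
    ∃ w : Compare.Z A U F M 0, w.1 = φ.hom.lTensor (CM A U F 0) v.1 ∧
      (CohIII.TFun (C A U F) ((0 : ℕ) : ℤ)).map φ (Compare.toT A U F N 0 v) =
        Compare.toT A U F M 0 w :=
  ⟨⟨((CohIII.tensorMap (C A U F) φ).f ((0 : ℕ) : ℤ)).hom v.1, by
      show ((CohIII.tensorMap (C A U F) φ).f _ ≫ (Compare.K A U F _).d _ _).hom v.1 = 0
      rw [(CohIII.tensorMap (C A U F) φ).comm]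
      exact (congrArg _ v.2).trans (map_zero _)⟩, rfl,
    FlatCx.Elem.homologyMap_cls (CohIII.tensorMap (C A U F) φ) (Compare.next_eq 0) v _ rfl⟩

include hU hcov in
/-- Spanning of `H⁰(X, F ⊗ -)` at `M` is spanning of the Čech cocycles. -/
theorem span_iff (M : ModuleCat.{u} A) :
    SpanFibre.Span (CohIII.tensorAFunctor A F ⋙ CohIII.HAb X 0) M ↔
      ∀ z, (dA A U F 0).lTensor M z = 0 →
        z ∈ LinearMap.range ((LinearMap.ker (dA A U F 0)).subtype.lTensor M) := by
  obtain ⟨e⟩ := Compare.nonempty_natIso A U F hU hcov 0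
  refine Iff.trans ⟨fun h => SpanFibre.Span.of_iso e.symm h, fun h => SpanFibre.Span.of_iso e h⟩ ?_
  let K := LinearMap.ker (dA A U F 0)
  have hinj : ∀ w : Compare.Z A U F M 0, Compare.toT A U F M 0 w = 0 → w.1 = 0 := by
    intro w hw
    obtain ⟨y, hy⟩ := (FlatCx.Elem.cls_eq_zero_iff (K := Compare.K A U F M) Compare.prev_zero
      (Compare.next_eq 0) w).1 hw
    haveI : Subsingleton ((Compare.K A U F M).X (Int.negSucc 0)) :=
      ModuleCat.subsingleton_of_isZero ((MonoidalCategory.tensorRight _).map_isZero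
        (isZero_C A U F _ (Int.negSucc_lt_zero 0)))
    rw [← hy, Subsingleton.elim y 0, map_zero]
  have hone : ∀ v : Compare.Z A U F (ModuleCat.of A A) 0,
      ∃ c : K, (v.1 : CM A U F 0 ⊗[A] A) = c.1 ⊗ₜ 1 := by
    intro v
    let v₀ : CM A U F 0 ⊗[A] A := v.1
    have h0 : (dA A U F 0).rTensor A v₀ = 0 :=
      (Compare.K_d A U F (ModuleCat.of A A) 0 v.1).symm.trans v.2
    have h1 : v₀ = TensorProduct.rid A _ v₀ ⊗ₜ 1 :=
      (TensorProduct.rid A _).injective (by simp)
    rw [h1, LinearMap.rTensor_tmul] at h0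
    refine ⟨⟨TensorProduct.rid A _ v₀, ?_⟩, h1⟩
    have h2 := congrArg (TensorProduct.rid A _) h0
    rw [TensorProduct.rid_tmul, one_smul, map_zero] at h2
    exact h2
  constructor
  · intro h z hz
    let z' : CM A U F 0 ⊗[A] M := TensorProduct.comm A M (CM A U F 0) z
    have hz' : ((Compare.K A U F M).d ((0 : ℕ) : ℤ) ((1 : ℕ) : ℤ)).hom z' = 0 := by
      refine (Compare.K_d A U F M 0 z').trans ?_
      show (dA A U F 0).rTensor M (TensorProduct.comm A M (CM A U F 0) z) = 0
      rw [show (dA A U F 0).rTensor M (TensorProduct.comm A M (CM A U F 0) z) =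
        TensorProduct.comm A M (CM A U F 1) ((dA A U F 0).lTensor M z) from
          LinearMap.congr_fun (LinearMap.rTensor_comp_comm (dA A U F 0)) z, hz, map_zero]
    let R : AddSubgroup (CohIII.T (C A U F) ((0 : ℕ) : ℤ) M) :=
      AddSubgroup.map (Compare.toT A U F M 0)
        ((LinearMap.range (K.subtype.rTensor M)).toAddSubgroup.comap
          (LinearMap.ker ((Compare.K A U F M).d ((0 : ℕ) : ℤ) ((1 : ℕ) : ℤ)).hom).subtype.toAddMonoidHom)
    have hR : Compare.toT A U F M 0 ⟨z', hz'⟩ ∈ R := by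
      refine (AddSubgroup.closure_le (K := R)).2 ?_ (h _)
      rintro y ⟨φ, t, rfl⟩
      obtain ⟨v, rfl⟩ := Compare.toT_surjective A U F (ModuleCat.of A A) 0 t
      obtain ⟨w, hw, hw'⟩ := toT_map A U F φ v
      refine ⟨w, ?_, hw'.symm⟩
      obtain ⟨c, hc⟩ := hone v
      exact ⟨c ⊗ₜ φ.hom 1, by
        show _ = w.1
        rw [hw]
        refine Eq.trans ?_ (congrArg (φ.hom.lTensor (CM A U F 0)) hc).symm
        rfl⟩
    obtain ⟨w, hwm, hw⟩ := hR
    have hwz : w.1 = z' := by
      have h4 : Compare.toT A U F M 0 (w - ⟨z', hz'⟩) = 0 := by rw [map_sub, hw, sub_self]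
      exact sub_eq_zero.1 (hinj _ h4)
    obtain ⟨r, hr⟩ := hwm
    refine ⟨TensorProduct.comm A K M r, (TensorProduct.comm A M (CM A U F 0)).injective ?_⟩
    show _ = z'
    rw [← show K.subtype.rTensor M (TensorProduct.comm A M K (TensorProduct.comm A K M r)) =
      TensorProduct.comm A M (CM A U F 0) (K.subtype.lTensor M (TensorProduct.comm A K M r)) from
        LinearMap.congr_fun (LinearMap.rTensor_comp_comm K.subtype) _, ← hwz]
    refine Eq.trans ?_ hr
    exact congrArg (K.subtype.rTensor M) (by simp)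
  · intro h t
    obtain ⟨v, rfl⟩ := Compare.toT_surjective A U F M 0 t
    let v₀ : CM A U F 0 ⊗[A] M := v.1
    have hv : (dA A U F 0).rTensor M v₀ = 0 := (Compare.K_d A U F M 0 v.1).symm.trans v.2
    obtain ⟨r, hr⟩ := h ((TensorProduct.comm A M (CM A U F 0)).symm v₀) (by
      apply (TensorProduct.comm A M (CM A U F 1)).injective
      rw [map_zero, ← show (dA A U F 0).rTensor M
          (TensorProduct.comm A M (CM A U F 0) ((TensorProduct.comm A M (CM A U F 0)).symm v₀)) =
          TensorProduct.comm A M (CM A U F 1) ((dA A U F 0).lTensor M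
            ((TensorProduct.comm A M (CM A U F 0)).symm v₀))
        from LinearMap.congr_fun (LinearMap.rTensor_comp_comm (dA A U F 0)) _,
        LinearEquiv.apply_symm_apply]
      exact hv)
    let T := CohIII.TFun (C A U F) ((0 : ℕ) : ℤ) ⋙ forget₂ (ModuleCat.{u} A) AddCommGrpCat.{u}
    let Cl := AddSubgroup.closure
      {y : T.obj M | ∃ (φ : ModuleCat.of A A ⟶ M) (t : T.obj (ModuleCat.of A A)), T.map φ t = y}
    suffices key : ∀ (a : K ⊗[A] M) (w : Compare.Z A U F M 0), w.1 = K.subtype.rTensor M a →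
        Compare.toT A U F M 0 w ∈ Cl by
      refine key (TensorProduct.comm A M K r) v ?_
      show v₀ = _
      rw [show K.subtype.rTensor M (TensorProduct.comm A M K r) =
        TensorProduct.comm A M (CM A U F 0) (K.subtype.lTensor M r) from
          LinearMap.congr_fun (LinearMap.rTensor_comp_comm K.subtype) r, hr,
        LinearEquiv.apply_symm_apply]
    intro a
    induction a using TensorProduct.induction_on with
    | zero =>
      intro w hw
      obtain rfl : w = 0 := Subtype.ext (hw.trans (map_zero _))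
      rw [map_zero]
      exact zero_mem _
    | tmul c m =>
      intro w hw
      have hc : ((Compare.K A U F (ModuleCat.of A A)).d ((0 : ℕ) : ℤ) ((1 : ℕ) : ℤ)).hom
          ((c.1 : CM A U F 0) ⊗ₜ[A] (1 : A)) = 0 := by
        refine (Compare.K_d A U F (ModuleCat.of A A) 0 _).trans ?_
        exact (congrArg (· ⊗ₜ[A] (1 : A)) c.2).trans (TensorProduct.zero_tmul _ _)
      obtain ⟨w', hw', hT⟩ := toT_map A U F (SpanFibre.elemHom M m) ⟨_, hc⟩
      obtain rfl : w = w' := Subtype.ext (hw.trans (Eq.trans (by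
        exact (congrArg ((c.1 : CM A U F 0) ⊗ₜ[A] ·) (one_smul A m)).symm) hw'.symm))
      exact AddSubgroup.subset_closure ⟨_, _, hT⟩
    | add a b ha hb =>
      intro w hw
      have hd : ∀ a : K ⊗[A] M, ((Compare.K A U F M).d ((0 : ℕ) : ℤ) ((1 : ℕ) : ℤ)).hom
          (K.subtype.rTensor M a) = 0 := fun a => by
        refine (Compare.K_d A U F M 0 _).trans ?_
        rw [← LinearMap.rTensor_comp_apply, show dA A U F 0 ∘ₗ K.subtype = 0 from
          LinearMap.comp_ker_subtype _, LinearMap.rTensor_zero, LinearMap.zero_apply]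
        all_goals rfl
      obtain rfl : w = ⟨_, hd a⟩ + ⟨_, hd b⟩ := Subtype.ext (hw.trans (map_add _ a b))
      rw [map_add]
      exact add_mem (ha _ rfl) (hb _ rfl)

end Res

section BaseChange

variable {A A' : Type u} [CommRing A] [CommRing A'] [Algebra A A'] {X X' : Scheme.{u}}
  [X.Over (Spec (CommRingCat.of A))] [X'.Over (Spec (CommRingCat.of A'))] {g' : X' ⟶ X}
  (hsq : IsPullback g' (X' ↘ Spec (CommRingCat.of A')) (X ↘ Spec (CommRingCat.of A))
    (Spec.map (CommRingCat.ofHom (algebraMap A A'))))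
  (F : X.Modules)

local notation "pX" => (X ↘ Spec (CommRingCat.of A))
local notation "pX'" => (X' ↘ Spec (CommRingCat.of A'))

include hsq in
theorem pbRes_top_smul (a : A) (n : (secA pX ⊤).obj F) :
    toSec pX' (PullbackSections.pbRes g' F (le_refl (⊤ : X'.Opens)) (ofSec pX (a • n))) =
      algebraMap A A' a • toSec pX' (PullbackSections.pbRes g' F (le_refl (⊤ : X'.Opens))
        (ofSec pX n)) :=
  _root_.ZarCoh.Exchange.BaseChange.pbRes_rho hsq F (W := ⊤) (W' := ⊤) le_rfl a n

/-- Base change of global sections. -/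
def gammaMap : A' ⊗[A] ((secA pX ⊤).obj F : Type u) →+
    ((secA pX' ⊤).obj ((Scheme.Modules.pullback g').obj F) : Type u) :=
  TensorProduct.liftAddHom
    (AddMonoidHom.mk' (fun b => AddMonoidHom.mk' (fun n : (secA pX ⊤).obj F =>
        b • toSec pX' (PullbackSections.pbRes g' F (le_refl (⊤ : X'.Opens)) (ofSec pX n)))
      fun n n' => by rw [← smul_add]; exact congrArg (b • ·) (map_add _ _ _))
      fun b b' => AddMonoidHom.ext fun n => add_smul b b' _)
    fun a b n => by
      show (a • b) • _ = b • toSec pX' (PullbackSections.pbRes g' F _ (ofSec pX (a • n)))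
      rw [pbRes_top_smul hsq, smul_smul, Algebra.smul_def, mul_comm]

theorem gammaMap_tmul (b : A') (n : (secA pX ⊤).obj F) :
    gammaMap hsq F (b ⊗ₜ n) =
      b • toSec pX' (PullbackSections.pbRes g' F (le_refl (⊤ : X'.Opens)) (ofSec pX n)) := rfl

variable [F.IsQuasicoherent] [QuasiCompact (X ↘ Spec (CommRingCat.of A))]
  [IsSeparated (X ↘ Spec (CommRingCat.of A))]

include hsq in
/-- Base change of global sections through the Čech kernels. -/
theorem gammaMap_spec
    (hflat : ∀ W : X.Opens, IsAffineOpen W → Module.Flat A ((secA pX W).obj F)) :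
    ∃ (ι : Type u) (_ : Finite ι) (U : ι → X.Opens),
      (∀ {q : ℕ} (i : Fin (q + 1) → ι), IsAffineOpen (inter U i)) ∧ iSup U = ⊤ ∧
      (∀ q, Module.Flat A (CM A U F q)) ∧
      (Function.Surjective (gammaMap hsq F) ↔ ∀ w, (dA A U F 0).lTensor A' w = 0 →
        w ∈ LinearMap.range ((LinearMap.ker (dA A U F 0)).subtype.lTensor A')) ∧
      (Function.Injective ((LinearMap.ker (dA A U F 0)).subtype.lTensor A') →
        Function.Injective (gammaMap hsq F)) := by
  classical
  haveI : X.IsSeparated := ⟨by rw [← terminal.comp_from pX]; infer_instance⟩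
  haveI : CompactSpace X := (quasiCompact_iff_compactSpace pX).mp inferInstance
  obtain ⟨s, hs, hcov'⟩ :=
    isCompact_and_isOpen_iff_finite_and_eq_biUnion_affineOpens.mp
      ⟨(isCompact_univ : IsCompact (Set.univ : Set X)), isOpen_univ⟩
  haveI := hs.to_subtype
  let U : s → X.Opens := fun i => i.1.1
  have hU : ∀ {q : ℕ} (i : Fin (q + 1) → s), IsAffineOpen (inter U i) := fun i =>
    IsAffineOpen.iInf fun a => (i a).1.2
  have hcov : iSup U = ⊤ := by
    apply TopologicalSpace.Opens.ext
    rw [TopologicalSpace.Opens.coe_iSup, TopologicalSpace.Opens.coe_top, hcov']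
    ext x
    simp [U]
  have hcov'' : iSup (fun j => g' ⁻¹ᵁ U j) = ⊤ := by
    refine TopologicalSpace.Opens.ext ?_
    rw [TopologicalSpace.Opens.coe_iSup, TopologicalSpace.Opens.coe_top]
    simp only [Scheme.Hom.coe_preimage, ← Set.preimage_iUnion]
    rw [← TopologicalSpace.Opens.coe_iSup, hcov]
    rfl
  haveI := Fintype.ofFinite s
  haveI : ∀ q, Module.Flat A (CM A U F q) := fun q => by
    haveI : ∀ i : Fin (q + 1) → s, Module.Flat A ((secA pX (inter U i)).obj F : Type u) :=
      fun i => hflat _ (hU i)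
    exact Module.Flat.of_linearEquiv (DirectSum.linearEquivFunOnFintype A (Fin (q + 1) → s)
      (fun i => ((secA pX (inter U i)).obj F : Type u))).symm
  let r := res0 A U F
  let rk : ((secA pX ⊤).obj F : Type u) ≃ₗ[A] LinearMap.ker (dA A U F 0) :=
    LinearEquiv.ofBijective (r.codRestrict _ (dA_res0 A U F))
      ⟨fun a b hab => res0_injective A U F hcov (congrArg Subtype.val hab), fun c => by
        obtain ⟨m, hm⟩ := exists_res0 A U F hcov c.1 c.2
        exact ⟨m, Subtype.ext hm⟩⟩
  let U' := fun j => g' ⁻¹ᵁ U j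
  let F' := (Scheme.Modules.pullback g').obj F
  letI : ∀ q, Module A (CM A' U' F' q) := fun q => Module.compHom _ (algebraMap A A')
  haveI : ∀ q, IsScalarTower A A' (CM A' U' F' q) := fun q =>
    IsScalarTower.of_algebraMap_smul fun _ _ => rfl
  let L : ∀ q, A' ⊗[A] CM A U F q →ₗ[A'] CM A' U' F' q := fun q =>
    LinearMap.liftBaseChange A' (R := A) (M := CM A U F q) (N := CM A' U' F' q)
      { _root_.ZarCoh.Exchange.BaseChange.betaM (A' := A') F U q with
        map_smul' := _root_.ZarCoh.Exchange.BaseChange.betaM_smul hsq F U q }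
  have hL : ∀ q, Function.Bijective (L q) := fun q =>
    _root_.ZarCoh.Exchange.BaseChange.bijective_lift_betaM hsq F U hU q
  have hd : ∀ z, dA A' U' F' 0 (L 0 z) = L 1 ((dA A U F 0).lTensor A' z) := by
    intro z
    induction z using TensorProduct.induction_on with
    | zero => simp only [map_zero]
    | tmul b c =>
      rw [LinearMap.lTensor_tmul, LinearMap.liftBaseChange_tmul, LinearMap.liftBaseChange_tmul,
        map_smul]
      exact congrArg (b • ·) (_root_.ZarCoh.Exchange.BaseChange.betaM_dA F U 0 c)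
    | add a b ha hb => simp only [map_add, ha, hb]
  have hr : ∀ z, res0 A' U' F' (gammaMap hsq F z) = L 0 (r.lTensor A' z) := by
    intro z
    induction z using TensorProduct.induction_on with
    | zero => simp only [map_zero]
    | tmul b c =>
      rw [gammaMap_tmul, map_smul, LinearMap.lTensor_tmul, LinearMap.liftBaseChange_tmul]
      refine congrArg (b • ·) (funext fun i => ?_)
      exact _root_.ZarCoh.Exchange.BaseChange.pbRes_res F le_top le_top le_rfl
        (_root_.ZarCoh.Exchange.BaseChange.inter_preimage U i).le (ofSec pX c)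
    | add a b ha hb => simp only [map_add, ha, hb]
  have hrk : ∀ z, r.lTensor A' z =
      (LinearMap.ker (dA A U F 0)).subtype.lTensor A' (rk.toLinearMap.lTensor A' z) := fun z => by
    rw [← LinearMap.lTensor_comp_apply]; rfl
  refine ⟨s, inferInstance, U, hU, hcov, inferInstance, ⟨fun hs w hw => ?_, fun hex y => ?_⟩,
    fun hinj => ?_⟩
  · have hw' : dA A' U' F' 0 (L 0 w) = 0 := by rw [hd, hw, map_zero]
    obtain ⟨m, hm⟩ := exists_res0 A' U' F' hcov'' _ hw'
    obtain ⟨z, rfl⟩ := hs m
    rw [hr] at hm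
    exact ⟨rk.toLinearMap.lTensor A' z, ((hL 0).1 hm ▸ hrk z).symm⟩
  · obtain ⟨w, hw⟩ := (hL 0).2 (res0 A' U' F' y)
    have hw0 : (dA A U F 0).lTensor A' w = 0 := (hL 1).1 (by
      rw [← hd, hw, dA_res0, map_zero])
    obtain ⟨v, hv⟩ := hex w hw0
    obtain ⟨z, hz⟩ := (rk.lTensor A').surjective v
    refine ⟨z, res0_injective A' U' F' hcov'' ?_⟩
    rw [hr, hrk, show rk.toLinearMap.lTensor A' z = v from hz, hv, hw]
  · rw [injective_iff_map_eq_zero]
    intro z hz
    have h0 : r.lTensor A' z = 0 := (hL 0).1 (by rw [← hr, hz, map_zero, map_zero])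
    rw [hrk] at h0
    have h1 := hinj (h0.trans (map_zero _).symm)
    exact (rk.lTensor A').injective (h1.trans (map_zero _).symm)

include hsq in
/-- If `M ↦ H⁰(X, F ⊗ M)` is right exact, global sections commute with base change. -/
theorem bijective_gammaMap
    (hflat : ∀ W : X.Opens, IsAffineOpen W → Module.Flat A ((secA pX W).obj F))
    (h : (CohIII.tensorAFunctor A F ⋙ CohIII.HAb X 0).PreservesEpimorphisms) :
    Function.Bijective (gammaMap hsq F) := by
  obtain ⟨ι, _, U, hU, hcov, _, hsurj, hinj'⟩ := gammaMap_spec hsq F hflat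
  haveI := flat_coker_dA A U F hU hcov h
  obtain ⟨hinj, hex⟩ := FlatCx.Ker.ker_lTensor_of_flat_coker (dA A U F 0) A'
  exact ⟨hinj' hinj, hsurj.2 fun w hw => (hex w).1 hw⟩

include hsq in
/-- Surjectivity of base change is spanning. -/
theorem surjective_gammaMap_iff
    (hflat : ∀ W : X.Opens, IsAffineOpen W → Module.Flat A ((secA pX W).obj F)) :
    Function.Surjective (gammaMap hsq F) ↔
      SpanFibre.Span (CohIII.tensorAFunctor A F ⋙ CohIII.HAb X 0) (ModuleCat.of A A') := by
  obtain ⟨ι, _, U, hU, hcov, _, hsurj, -⟩ := gammaMap_spec hsq F hflat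
  exact hsurj.trans (span_iff A U F hU hcov (ModuleCat.of A A')).symm

end BaseChange

end

end Groth.Agent.Lib.ExchangeFP29.BC0
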