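import Groth.Agent.Lib.ExchangeFP29.MainBC
import Groth.Agent.Lib.ExchangeFP29.SpanFibre

/-!
# Surjectivity of the base change map to a fibre in degree zero
-/

set_option autoImplicit false
set_option linter.style.haveILetI false
set_option maxHeartbeats 1000000
universe u

open CategoryTheory CategoryTheory.Limits AlgebraicGeometry TopologicalSpace Opposite
open Groth.Agent Groth.Agent.Lib Groth.Agent.Lib.FlatCx.Basic
open _root_.ZarCoh.Exchange

namespace Groth.Agent.Lib.ExchangeFP29.Main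

/-- An epimorphism of modules on the spectrum of a field is surjective on global sections. -/
theorem surjective_top_of_epi {K : Type u} [Field K] {M N : (Spec (CommRingCat.of K)).Modules}
    (φ : M ⟶ N) [Epi φ] : Function.Surjective (φ.app ⊤) := by
  intro t
  let x : Spec (CommRingCat.of K) := IsLocalRing.closedPoint K
  have hep : Epi ((Groth.Agent.Lib.Modules.Stalk.stalkFunctor _ x).map φ) := inferInstance
  obtain ⟨v, hv⟩ := (AddCommGrpCat.epi_iff_surjective _).1 hep
    (N.presheaf.germ ⊤ x trivial t)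
  obtain ⟨U, hx, m, rfl⟩ := TopCat.Presheaf.exists_germ_eq M.presheaf v
  obtain rfl : U = ⊤ := eq_top_iff.2 fun y _ => (Subsingleton.elim y x) ▸ hx
  refine ⟨m, ?_⟩
  have h1 : N.presheaf.germ ⊤ x trivial (φ.app ⊤ m) = N.presheaf.germ ⊤ x trivial t :=
    (Groth.Agent.Lib.Modules.Stalk.stalkFunctor_map_germ x φ hx m).symm.trans hv
  obtain ⟨W, hxW, i₁, i₂, hW⟩ :=
    TopCat.Presheaf.germ_eq N.presheaf (U := ⊤) (V := ⊤) x trivial trivial _ _ h1
  obtain rfl : W = ⊤ := eq_top_iff.2 fun y _ => (Subsingleton.elim y x) ▸ hxW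
  rw [Subsingleton.elim i₁ (𝟙 _), Subsingleton.elim i₂ (𝟙 _), op_id,
    CategoryTheory.Functor.map_id] at hW
  exact hW

theorem surjective_app_congr {T : Scheme.{u}} {M N : T.Modules} (φ : M ⟶ N) {O O' : T.Opens}
    (h : O = O') : Function.Surjective (φ.app O) ↔ Function.Surjective (φ.app O') := by
  subst h; rfl

set_option backward.isDefEq.respectTransparency.types false in
theorem specMap_residue {A : CommRingCat.{u}} {S : Scheme.{u}} (j : Spec A ⟶ S) (x : PrimeSpectrum A) :
    Spec.map (j.residueFieldMap x ≫ (Scheme.Spec.residueFieldIso A x).hom) ≫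
        S.fromSpecResidueField (j x) =
      Spec.map (CommRingCat.ofHom (algebraMap A x.asIdeal.ResidueField)) ≫ j := by
  rw [Spec.map_comp, Category.assoc,
    Scheme.Hom.SpecMap_residueFieldMap_fromSpecResidueField, ← Category.assoc]
  congr 1
  rw [← Scheme.Spec.map_residueFieldIso_inv_eq_fromSpecResidueField, ← Category.assoc,
    ← Spec.map_comp, Iso.inv_hom_id, Spec.map_id, Category.id_comp]

/-- Spanning along an isomorphism of modules. -/
theorem span_of_iso {A : Type u} [CommRing A] {G : ModuleCat.{u} A ⥤ AddCommGrpCat.{u}}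
    {M M' : ModuleCat.{u} A} (i : M ≅ M') (h : SpanFibre.Span G M) : SpanFibre.Span G M' := by
  intro x'
  obtain ⟨x, rfl⟩ : ∃ x, (G.map i.hom).hom x = x' :=
    (ConcreteCategory.bijective_of_isIso (G.map i.hom)).2 x'
  refine (AddSubgroup.closure_le (K := (AddSubgroup.closure _).comap (G.map i.hom).hom)).2 ?_ (h x)
  rintro y ⟨φ, t, rfl⟩
  refine AddSubgroup.subset_closure ⟨φ ≫ i.hom, t, ?_⟩
  rw [G.map_comp, ConcreteCategory.comp_apply]

variable {X S : Scheme.{u}} (f : X ⟶ S) (F : X.Modules)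

/-- The base change map to the fibre at `y` is surjective on global sections. -/
def FibSurj (y : S) : Prop :=
  Function.Surjective ((CohBC.bc0 f (S.fromSpecResidueField y) (f.fiberToSpecResidueField y)
    (f.fiberι y) (f.fiber_fac y) F).app ⊤)

/-- An epimorphism to the fibre gives surjectivity. -/
theorem fibSurj_of_epi (y : S)
    (h : Epi (CohBC.bc0 f (S.fromSpecResidueField y) (f.fiberToSpecResidueField y) (f.fiberι y)
      (f.fiber_fac y) F)) : FibSurj f F y :=
  haveI := h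
  surjective_top_of_epi (K := S.residueField y) _

variable [IsProper f] [LocallyOfFinitePresentation f] [F.IsQuasicoherent]
  (hF : CohB1.IsFP F) (hfl : FlatMod.IsFlatOver f F)

include hfl in
omit [LocallyOfFinitePresentation f] in
/-- Surjectivity to a fibre is spanning of `H⁰` at the residue field. -/
theorem fibSurj_iff (V : S.Opens) [IsAffine (V : Scheme.{u})] (x : PrimeSpectrum (Local.AV V)) :
    FibSurj f F (LocalRep.k V x) ↔
      SpanFibre.Span (CohIII.tensorAFunctor (Local.AV V) (Local.MV f V F) ⋙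
        CohIII.HAb (Local.XV f V) 0) (ModuleCat.of (Local.AV V) x.asIdeal.ResidueField) := by
  let y : S := LocalRep.k V x
  let σ := S.fromSpecResidueField y
  haveI : IsIso (Scheme.Hom.residueFieldMap (LocalRep.k V) x) :=
    Scheme.instIsIsoCommRingCatResidueFieldMapOfIsOpenImmersion (LocalRep.k V) x
  let θ : S.residueField y ≅ CommRingCat.of x.asIdeal.ResidueField :=
    asIso ((LocalRep.k V).residueFieldMap x) ≪≫ Scheme.Spec.residueFieldIso (CommRingCat.of (Local.AV V)) x
  have hθ : Spec.map θ.hom ≫ σ =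
      Spec.map (CommRingCat.ofHom (algebraMap (Local.AV V) x.asIdeal.ResidueField)) ≫ LocalRep.k V :=
    specMap_residue (LocalRep.k V) x
  let φ : CommRingCat.of (Local.AV V) ⟶ S.residueField y :=
    CommRingCat.ofHom (algebraMap (Local.AV V) x.asIdeal.ResidueField) ≫ θ.inv
  have hσ : σ = Spec.map φ ≫ LocalRep.k V := by
    rw [Spec.map_comp, Category.assoc, ← hθ, ← Category.assoc, ← Spec.map_comp, Iso.hom_inv_id,
      Spec.map_id, Category.id_comp]
  let O : (Spec (S.residueField y)).Opens := ⊤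
  haveI : IsAffine (O : Scheme.{u}) := isAffineOpen_top _
  have hmem : ∀ z, σ z ∈ V := fun z => by
    rw [Scheme.fromSpecResidueField_apply]
    exact k_mem V x
  have hOV : O ≤ σ ⁻¹ᵁ V := fun z _ => hmem z
  have e : O.ι ''ᵁ ⊤ ≤ σ ⁻¹ᵁ (V.ι ''ᵁ ⊤) := by
    rw [O.ι_image_top, V.ι_image_top]; exact hOV
  letI : Algebra (Local.AV V) (Local.AV O) :=
    (σ.appLE (V.ι ''ᵁ ⊤) (O.ι ''ᵁ ⊤) e).hom.toAlgebra
  have hres : σ.resLE V O (CohDelta.BC.Affine.hle σ e) =
      O.ι ≫ Spec.map φ ≫ (V : Scheme.{u}).isoSpec.inv := by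
    rw [← cancel_mono V.ι, Scheme.Hom.resLE_comp_ι, hσ]
    simp only [Category.assoc]
    rfl
  have hinv : (V : Scheme.{u}).isoSpec.inv.appTop = (Scheme.ΓSpecIso Γ((V : Scheme.{u}), ⊤)).inv := by
    have h1 : (V : Scheme.{u}).isoSpec.hom.appTop ≫ (V : Scheme.{u}).isoSpec.inv.appTop = 𝟙 _ := by
      rw [← Scheme.Hom.comp_appTop, Iso.inv_hom_id, Scheme.Hom.id_appTop]
    rw [show (V : Scheme.{u}).isoSpec.hom = (V : Scheme.{u}).toSpecΓ from rfl,
      Scheme.toSpecΓ_appTop] at h1
    rw [← cancel_epi (Scheme.ΓSpecIso _).hom, Iso.hom_inv_id]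
    exact h1
  haveI : IsIso O.ι := (Scheme.topIso _).isIso_hom
  let ψ : CommRingCat.of x.asIdeal.ResidueField ⟶ CommRingCat.of (Local.AV O) :=
    θ.inv ≫ (Scheme.ΓSpecIso (S.residueField y)).inv ≫ O.ι.appTop
  have hψ : CommRingCat.ofHom (algebraMap (Local.AV V) x.asIdeal.ResidueField) ≫ ψ =
      σ.appLE (V.ι ''ᵁ ⊤) (O.ι ''ᵁ ⊤) e := by
    rw [← CohDelta.BC.Affine.appTop_resLE σ e, hres, Scheme.Hom.comp_appTop, Scheme.Hom.comp_appTop, hinv]
    exact ((Category.assoc _ _ _).symm.trans (Category.assoc _ _ _).symm).trans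
      (congrArg (· ≫ O.ι.appTop) (Scheme.ΓSpecIso_inv_naturality φ))
  haveI : IsIso (O.ι.appTop) :=
    (Scheme.Γ.mapIso (Scheme.topIso (Spec (S.residueField y))).op).isIso_hom
  haveI : IsIso ψ := inferInstanceAs (IsIso (θ.inv ≫ (Scheme.ΓSpecIso _).inv ≫ O.ι.appTop))
  let iA : ModuleCat.of (Local.AV V) x.asIdeal.ResidueField ≅
      ModuleCat.of (Local.AV V) (Local.AV O) :=
    LinearEquiv.toModuleIso (LinearEquiv.ofBijective
      { toFun := fun c => ψ.hom c
        map_add' := fun a b => map_add ψ.hom a b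
        map_smul' := fun a c => by
          rw [Algebra.smul_def, map_mul]
          exact congrArg (· * ψ.hom c) (ConcreteCategory.congr_hom hψ a) }
      (ConcreteCategory.bijective_of_isIso ψ))
  refine (surjective_app_congr _ O.ι_image_top.symm).trans ?_
  refine (BC0Glob.surjective_chart_iff f σ (f.fiberι y) (f.fiberToSpecResidueField y)
    (IsPullback.of_hasPullback f σ) F V O e hfl).trans ?_
  exact ⟨fun h => span_of_iso iA.symm h, fun h => span_of_iso iA h⟩

include hfl in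
omit [LocallyOfFinitePresentation f] in
/-- Spanning for the exchange complex. -/
theorem span_P_iff (V : S.Opens) [IsAffine (V : Scheme.{u})]
    {P : ChainComplex (ModuleCat.{u} (Local.AV V)) ℤ}
    (e : CohIII.TFun P (-((0 : ℕ) : ℤ)) ⋙
        forget₂ (ModuleCat.{u} (Local.AV V)) AddCommGrpCat.{u} ≅
      CohIII.tensorAFunctor (Local.AV V) (Local.MV f V F) ⋙ CohIII.HAb (Local.XV f V) 0)
    (x : PrimeSpectrum (Local.AV V)) :
    FibSurj f F (LocalRep.k V x) ↔
      SpanFibre.Span (CohIII.TFun P (-((0 : ℕ) : ℤ)) ⋙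
        forget₂ (ModuleCat.{u} (Local.AV V)) AddCommGrpCat.{u})
        (ModuleCat.of (Local.AV V) x.asIdeal.ResidueField) :=
  (fibSurj_iff f F hfl V x).trans
    ⟨fun h => h.of_iso e.symm, fun h => h.of_iso e⟩

include hF hfl

/-- Surjectivity to the fibre is an open condition. -/
theorem isOpen_fibSurj : IsOpen {y : S | FibSurj f F y} := by
  rw [isOpen_iff_mem_nhds]
  intro y hy
  obtain ⟨V, hV, hyV, -⟩ := exists_isAffineOpen_mem_and_subset (U := ⊤) (x := y) trivial
  haveI : IsAffine (V : Scheme.{u}) := hV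
  obtain ⟨P, hP, h⟩ := Rep.exists_local f F hF hfl V
  obtain ⟨e⟩ := (h 0).1
  have hy' : FibSurj f F (LocalRep.k V (pt V hyV)) := by rw [k_pt]; exact hy
  have h1 := SpanFibre.eventually_span (q := -((1 : ℕ) : ℤ)) (by omega) hP
    ((span_P_iff f F hfl V e _).1 hy')
  rw [← k_pt V hyV, ← (LocalRep.k V).isOpenEmbedding.map_nhds_eq (pt V hyV)]
  exact Filter.mem_map.2 (h1.mono fun z hz => (span_P_iff f F hfl V e z).2 hz)

/-- Flatness of the first cokernel where all base change maps to fibres are surjective. -/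
theorem exists_of_fibSurj (V : S.Opens) [IsAffine (V : Scheme.{u})]
    (h : ∀ y ∈ V, FibSurj f F y) :
    ∃ P : ChainComplex (ModuleCat.{u} (Local.AV V)) ℤ, Algebra.IsGood P ∧
      (∀ p : ℕ, Nonempty (CohIII.TFun P (-(p : ℤ)) ⋙
          forget₂ (ModuleCat.{u} (Local.AV V)) AddCommGrpCat.{u} ≅
        CohIII.tensorAFunctor (Local.AV V) (Local.MV f V F) ⋙ CohIII.HAb (Local.XV f V) p)) ∧
      (∀ p : ℕ, (∀ y ∈ V, CohIII.fiberRank f F p y = 0) →
          Subsingleton (P.homology (-(p : ℤ))) ∧ Module.Flat (Local.AV V) (Q P (-(p : ℤ))) ∧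
            Module.Flat (Local.AV V) (Q P (-(p : ℤ) - 1))) ∧
      Module.Flat (Local.AV V) (Q P (-((1 : ℕ) : ℤ))) := by
  obtain ⟨P, hP, he, -, hz⟩ := exists_of_vanish f F hF hfl V
  obtain ⟨e⟩ := he 0
  exact ⟨P, hP, he, hz, SpanFibre.flat_Q (by omega) hP fun x =>
    (span_P_iff f F hfl V e x).1 (h _ (k_mem V x))⟩

/-- The direct image is locally free where the maps to the fibres are surjective. -/
theorem isFinLocFree_push_restrict (U : S.Opens) (hU : ∀ y ∈ U, FibSurj f F y)
    [HasInjectiveResolutions X.Modules] :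
    FlatMod.IsFinLocFree (((Coh.push f).obj F).restrict U.ι) := by
  obtain ⟨i⟩ := nonempty_zeroIso f F
  refine TensorMod.LocFree.of_iso ((Scheme.Modules.restrictFunctor U.ι).mapIso i)
    (Sheaf.isFinLocFree_restrict _ U fun y hy => ?_)
  obtain ⟨V, hV, hyV, hVU⟩ := exists_isAffineOpen_mem_and_subset (x := y) hy
  haveI : IsAffine (V : Scheme.{u}) := hV
  obtain ⟨P, hP, he, -, hq⟩ := exists_of_fibSurj f F hF hfl V fun z hz => hU z (hVU hz)
  obtain ⟨e⟩ := he 0
  obtain ⟨W, hW, ⟨j⟩⟩ := exists_free_nhd f F 0 hP e (hP.flat_Q_nonneg _ (by simp))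
    (by simpa using hq) hyV
  exact ⟨W, hW, TensorMod.LocFree.of_iso j.symm
    (TensorMod.LocFree.of_rank (TensorMod.LocFree.isFinLocFree_freeMod _ _))⟩

/-- Base change in degree zero where the maps to the fibres are surjective. -/
theorem isIso_bc0_of_fibSurj {X' T : Scheme.{u}} (g : T ⟶ S) (g' : X' ⟶ X) (f' : X' ⟶ T)
    (h : IsPullback g' f' f g) (h1 : ∀ t, FibSurj f F (g t)) :
    IsIso (CohBC.bc0 f g f' g' h.w F) := by
  refine BC0Glob.isIso_bc0 f g g' f' h F hfl fun t => ?_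
  obtain ⟨V, hV, htV, hVU⟩ := exists_isAffineOpen_mem_and_subset
    (U := ⟨_, isOpen_fibSurj f F hF hfl⟩) (x := g t) (h1 t)
  haveI : IsAffine (V : Scheme.{u}) := hV
  obtain ⟨P, hP, he, -, hq⟩ := exists_of_fibSurj f F hF hfl V fun z hz => hVU hz
  obtain ⟨e⟩ := he 0
  refine ⟨V, hV, htV, (Proper.preservesEpi_iff e).2 ?_⟩
  haveI := hP.flat (-((1 : ℕ) : ℤ))
  exact (FlatCx.Basic.preservesEpi_iff P _ (-((1 : ℕ) : ℤ)) (by omega)).2 hq

/-- `R¹` is locally free when `H²` of the fibres vanishes and the maps to the fibres are surjective. -/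
theorem isFinLocFree_Rpush_one [HasInjectiveResolutions X.Modules]
    (h0 : ∀ y, FibSurj f F y) (h2 : ∀ y, CohIII.fiberRank f F 2 y = 0) :
    FlatMod.IsFinLocFree ((Coh.Rpush f 1).obj F) := by
  refine TensorMod.TensorInv.isFinLocFree_of_locally fun y => ?_
  obtain ⟨V, hV, hyV, -⟩ := exists_isAffineOpen_mem_and_subset (U := ⊤) (x := y) trivial
  haveI : IsAffine (V : Scheme.{u}) := hV
  obtain ⟨P, hP, he, hz, hq⟩ := exists_of_fibSurj f F hF hfl V fun z _ => h0 z
  obtain ⟨e⟩ := he 1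
  have h := (hz 2 fun z _ => h2 z).2.1
  obtain ⟨W, hW, ⟨j⟩⟩ := exists_free_nhd f F 1 hP e hq
    (by rwa [show -((1 : ℕ) : ℤ) - 1 = -((2 : ℕ) : ℤ) by norm_num]) hyV
  exact ⟨W, hW, TensorMod.LocFree.of_iso j.symm
    (TensorMod.LocFree.of_rank (TensorMod.LocFree.isFinLocFree_freeMod _ _))⟩

end Groth.Agent.Lib.ExchangeFP29.Main
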