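import Groth.Agent.Lib.ExchangeFP29.MainBC
import Groth.Agent.Lib.Cube.SeesawCons
import Groth.Agent.Lib.Ample.GenLocus
import Groth.Agent.Lib.TensorMod.GenLocal

/-!
# The evaluation map of an invertible module trivial on the fibres
-/

set_option autoImplicit false
set_option linter.style.haveILetI false
set_option maxHeartbeats 1000000
universe u

open CategoryTheory CategoryTheory.Limits AlgebraicGeometry TopologicalSpace Opposite
open Groth.Agent Groth.Agent.Lib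
open Groth.Agent.Lib.TensorMod Groth.Agent.Lib.TensorMod.Basic Groth.Agent.Lib.TensorMod.Dual
open Groth.Agent.Lib.TensorMod.Gen Groth.Agent.Lib.TensorMod.HomGlue
open Groth.Agent.Lib.TensorMod.Pullback

namespace Groth.Agent.Lib.ExchangeFP29.Evaluation

variable {X S : Scheme.{u}} (f : X ⟶ S) {L : X.Modules}

/-- A generator of the direct image goes to a generator on a trivial fibre, when the base change
map to that fibre is an isomorphism. -/
theorem isGen_fibre (y : S) {V : S.Opens} (hy : y ∈ V) {t : Γ((Scheme.Modules.pushforward f).obj L, V)}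
    (ht : IsGen ((Scheme.Modules.pushforward f).obj L) V t)
    (hbc : IsIso (CohBC.bc0 f (S.fromSpecResidueField y) (f.fiberToSpecResidueField y) (f.fiberι y)
      (f.fiber_fac y) L))
    (htriv : Nonempty ((Scheme.Modules.pullback (f.fiberι y)).obj L ≅ Coh.structureModule (f.fiber y))) :
    IsGen ((Scheme.Modules.pullback (f.fiberι y)).obj L) (f.fiberι y ⁻¹ᵁ (f ⁻¹ᵁ V))
      (unitSec (f.fiberι y) L (show Γ(L, f ⁻¹ᵁ V) from t)) := by
  let σ := S.fromSpecResidueField y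
  let q := f.fiberToSpecResidueField y
  let ι := f.fiberι y
  let G := (Scheme.Modules.pullback ι).obj L
  let b := CohBC.bc0 f σ q ι (f.fiber_fac y) L
  haveI : IsIso b := hbc
  let O := σ ⁻¹ᵁ V
  have hO : O = ⊤ := eq_top_iff.2 fun z _ => by
    show σ z ∈ V
    rw [Scheme.fromSpecResidueField_apply]
    exact hy
  have hs : IsGen ((Scheme.Modules.pushforward q).obj G) O (b.app O (unitSec σ _ t)) :=
    Ample.GenLocus.isGen_of_isIso_over (Ample.GenLocus.isIso_over_of_iso (asIso b) O)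
      (Ample.GenLocus.isGen_unitSec σ ht)
  have eW : q ⁻¹ᵁ O ≤ ι ⁻¹ᵁ (f ⁻¹ᵁ V) := le_of_eq (by
    rw [← Scheme.Hom.comp_preimage, ← f.fiber_fac y, Scheme.Hom.comp_preimage])
  let l' : Γ(G, q ⁻¹ᵁ O) := rs G eW (unitSec ι L (show Γ(L, f ⁻¹ᵁ V) from t))
  have hval : (show Γ(G, q ⁻¹ᵁ O) from b.app O (unitSec σ _ t)) = l' := by
    have h1 : (Scheme.Modules.pullbackPushforwardAdjunction σ).homEquiv _ _ b =
        CohBC.bc0Adj f σ q ι (f.fiber_fac y) L := Equiv.apply_symm_apply _ _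
    have h2 := congrArg (fun k => k.app V t) h1
    simp only [Adjunction.homEquiv_unit] at h2
    refine h2.trans ?_
    unfold CohBC.bc0Adj
    simp only [Scheme.Modules.Hom.comp_app, ConcreteCategory.comp_apply,
      Scheme.Modules.pushforwardComp_hom_app_app, Scheme.Modules.pushforwardComp_inv_app_app,
      Scheme.Modules.pushforwardCongr_hom_app_app]
    rfl
  obtain ⟨φ⟩ := htriv
  have hgt : IsGen G (q ⁻¹ᵁ O) (φ.inv.app _ (one _ (q ⁻¹ᵁ O))) :=
    Ample.GenLocus.isGen_of_isIso_over (Ample.GenLocus.isIso_over_of_iso φ.symm _)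
      (Ample.GenLocus.isGen_one _)
  obtain ⟨c, hc⟩ := Ample.GenLocus.exists_coord hgt l'
  obtain ⟨a, ha⟩ := (hs O le_rfl).2 (φ.inv.app _ (one _ (q ⁻¹ᵁ O)))
  have ha' : (q.app O a * c) • φ.inv.app _ (one _ (q ⁻¹ᵁ O)) = φ.inv.app _ (one _ (q ⁻¹ᵁ O)) := by
    rw [mul_smul, ← hc, ← hval]
    simp only [rs_self] at ha
    exact ha
  have hu : IsUnit c := IsUnit.of_mul_eq_one_right (q.app O a) ((hgt _ le_rfl).1 (by
    simp only [rs_self]
    rw [ha', one_smul]))
  have hl : IsGen G (q ⁻¹ᵁ O) l' := hc ▸ Ample.GenLocus.IsGen_smul_isUnit hgt hu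
  intro W hW
  have hW' : W ≤ q ⁻¹ᵁ O := by rw [hO]; exact fun _ _ => trivial
  have := hl W hW'
  simp only [l', rs_rs] at this
  exact this

/-- A section generating on the fibre generates over a neighbourhood of the point. -/
theorem exists_gen_nhd [UniversallyClosed f] (hL : PicF.IsInvertible L) (y : S) {V : S.Opens}
    (hy : y ∈ V) (l : Γ(L, f ⁻¹ᵁ V))
    (hl : IsGen ((Scheme.Modules.pullback (f.fiberι y)).obj L) (f.fiberι y ⁻¹ᵁ (f ⁻¹ᵁ V))
      (unitSec (f.fiberι y) L l)) :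
    ∃ (V' : S.Opens) (h : V' ≤ V), y ∈ V' ∧ IsGen L (f ⁻¹ᵁ V') (rs L (f.preimage_mono h) l) := by
  let G : Set X := {x | ∃ (U : X.Opens) (hU : U ≤ f ⁻¹ᵁ V), x ∈ U ∧ IsGen L U (rs L hU l)}
  have hG : IsOpen G := isOpen_iff_forall_mem_open.2 fun x ⟨U, hU, hx, hg⟩ =>
    ⟨U, fun z hz => ⟨U, hU, hz, hg⟩, U.2, hx⟩
  have hfib : f ⁻¹' {y} ⊆ G := by
    intro x hx
    obtain ⟨z, rfl⟩ : x ∈ Set.range (f.fiberι y) := by rw [f.range_fiberι]; exact hx
    obtain ⟨U₀, e₀, hxU₀, he₀⟩ := isInvertible_iff.1 hL (f.fiberι y z)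
    have hxV : f.fiberι y z ∈ f ⁻¹ᵁ V := by
      show f (f.fiberι y z) ∈ V
      rw [show f (f.fiberι y z) = y from hx]
      exact hy
    let U := U₀ ⊓ f ⁻¹ᵁ V
    have he : IsGen L U (rs L inf_le_left e₀) := he₀.res inf_le_left
    obtain ⟨a, ha⟩ := Ample.GenLocus.exists_coord he (rs L (inf_le_right : U ≤ f ⁻¹ᵁ V) l)
    have h1 := hl.res ((f.fiberι y).preimage_mono (inf_le_right : U ≤ f ⁻¹ᵁ V))
    have h2 : rs _ ((f.fiberι y).preimage_mono (inf_le_right : U ≤ f ⁻¹ᵁ V)) (unitSec (f.fiberι y) L l) =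
        (f.fiberι y).app U a • unitSec (f.fiberι y) L (rs L inf_le_left e₀) :=
      (Ample.GenLocus.unitSec_rs (f.fiberι y) (inf_le_right : U ≤ f ⁻¹ᵁ V) l).trans
        ((congrArg (unitSec (f.fiberι y) L) ha).trans (Ample.GenLocus.unitSec_smul (f.fiberι y) a _))
    rw [h2] at h1
    have hu := Ample.GenLocus.isUnit_of_isGen_smul (Ample.GenLocus.isGen_unitSec (f.fiberι y) he) h1
    have hmem : f.fiberι y z ∈ X.basicOpen a := by
      have h3 : z ∈ (f.fiber y).basicOpen ((f.fiberι y).app U a) := by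
        rw [(f.fiber y).basicOpen_of_isUnit hu]
        exact ⟨hxU₀, hxV⟩
      rwa [← Scheme.preimage_basicOpen] at h3
    refine ⟨X.basicOpen a, (X.basicOpen_le a).trans inf_le_right, hmem, ?_⟩
    rw [← rs_rs L (inf_le_right : U ≤ f ⁻¹ᵁ V) (X.basicOpen_le a), ha, rs_smul]
    exact Ample.GenLocus.IsGen_smul_isUnit (he.res _) (RingedSpace.isUnit_res_basicOpen _ a)
  let W : S.Opens := ⟨(f '' Gᶜ)ᶜ, (f.isClosedMap _ hG.isClosed_compl).isOpen_compl⟩
  refine ⟨V ⊓ W, inf_le_left, ⟨hy, fun ⟨x, hx, hxy⟩ => hx (hfib hxy)⟩,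
    TensorMod.GenLocal.isGen_of_forall_exists fun x hx => ?_⟩
  obtain ⟨U, hU, hxU, hg⟩ : x ∈ G := by
    by_contra h
    exact hx.2 ⟨x, h, rfl⟩
  refine ⟨U ⊓ f ⁻¹ᵁ (V ⊓ W), inf_le_right, ⟨hxU, hx⟩, ?_⟩
  have h5 := hg.res (inf_le_left : U ⊓ f ⁻¹ᵁ (V ⊓ W) ≤ U)
  rw [rs_rs] at h5
  rw [rs_rs]
  exact h5

variable [IsProper f] [Flat f] [LocallyOfFinitePresentation f] [L.IsQuasicoherent]
  [HasInjectiveResolutions X.Modules]

omit [Flat f] in
/-- An invertible module trivial on the fibres, with one-dimensional `H⁰` and without `H¹` there,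
has a generator over a neighbourhood of every point of the base. -/
theorem exists_local_gen (hF : CohB1.IsFP L) (hfl : FlatMod.IsFlatOver f L) (hL : PicF.IsInvertible L)
    (h0 : ∀ y, CohIII.fiberRank f L 0 y = 1) (h1 : ∀ y, CohIII.fiberRank f L 1 y = 0) (y : S)
    (htriv : Nonempty ((Scheme.Modules.pullback (f.fiberι y)).obj L ≅ Coh.structureModule (f.fiber y))) :
    ∃ V : S.Opens, y ∈ V ∧ ∃ l : Γ(L, f ⁻¹ᵁ V), IsGen L (f ⁻¹ᵁ V) l := by
  obtain ⟨V₀, hV₀, hyV₀, -⟩ := exists_isAffineOpen_mem_and_subset (U := ⊤) (x := y) trivial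
  haveI : IsAffine (V₀ : Scheme.{u}) := hV₀
  obtain ⟨P, hP, he, -, hz⟩ := Main.exists_of_vanish f L hF hfl V₀
  obtain ⟨e⟩ := he 0
  obtain ⟨W, hyW, ⟨i⟩⟩ := Main.exists_free_nhd f L 0 hP e (hP.flat_Q_nonneg _ (by simp))
    (by simpa using (hz 1 fun z _ => h1 z).2.1) hyV₀
  rw [h0 y] at i
  obtain ⟨z⟩ := Main.nonempty_zeroIso f L
  obtain ⟨t, ht⟩ := exists_gen_of_iso (L := (Scheme.Modules.pushforward f).obj L)
    ((Scheme.Modules.restrictFunctor W.ι).mapIso z.symm ≪≫ i ≪≫ LocFree.freeModOneIso _)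
  have hbc := Main.isIso_bc0 f L hF hfl (S.fromSpecResidueField y) (f.fiberι y)
    (f.fiberToSpecResidueField y) (IsPullback.of_hasPullback f _) fun t => h1 _
  obtain ⟨V', hV', hyV', hg⟩ := exists_gen_nhd f hL y hyW (show Γ(L, f ⁻¹ᵁ W) from t)
    (isGen_fibre f y hyW ht hbc htriv)
  exact ⟨V', hyV', _, hg⟩

/-- The evaluation map is an isomorphism. -/
theorem isIso_counit (hpush : H2.Rigid.Push f) (hF : CohB1.IsFP L) (hfl : FlatMod.IsFlatOver f L)
    (hL : PicF.IsInvertible L) (h0 : ∀ y, CohIII.fiberRank f L 0 y = 1)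
    (h1 : ∀ y, CohIII.fiberRank f L 1 y = 0)
    (htriv : ∀ y, Nonempty ((Scheme.Modules.pullback (f.fiberι y)).obj L ≅
      Coh.structureModule (f.fiber y))) :
    PicF.IsInvertible ((Scheme.Modules.pushforward f).obj L) ∧
      IsIso ((Scheme.Modules.pullbackPushforwardAdjunction f).counit.app L) := by
  obtain ⟨M, hM, ⟨e⟩⟩ := Cube.SeesawGlobal.exists_of_local_gen f hpush L
    fun y => exists_local_gen f hF hfl hL h0 h1 y (htriv y)
  exact Cube.SeesawCons.counit_of_pullback f hpush hM e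

end Groth.Agent.Lib.ExchangeFP29.Evaluation
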