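import Groth.Prelude.Def_CohBC2
import Mathlib.CategoryTheory.Adjunction.Mates
import Mathlib.AlgebraicGeometry.Modules.Sheaf

/-!
# The base change map as a mate, built from either adjunction
-/

set_option autoImplicit false
universe u v₁ v₂ u₁ u₂

open CategoryTheory AlgebraicGeometry AlgebraicGeometry.Scheme.Modules

namespace Groth.Agent.Lib.ExchangeFP29.Mate

/-- Transposes commute with conjugate transformations. -/
theorem homEquiv_conjugate {C : Type u₁} {D : Type u₂} [Category.{v₁} C] [Category.{v₂} D]
    {L₁ L₂ : C ⥤ D} {R₁ R₂ : D ⥤ C} (adj₁ : L₁ ⊣ R₁) (adj₂ : L₂ ⊣ R₂) (τ : L₂ ⟶ L₁) {c : C} {d : D}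
    (x : L₁.obj c ⟶ d) :
    adj₂.homEquiv c d (τ.app c ≫ x) =
      adj₁.homEquiv c d x ≫ (conjugateEquiv adj₁ adj₂ τ).app d := by
  rw [Adjunction.homEquiv_unit, Adjunction.homEquiv_unit, Functor.map_comp, Category.assoc,
    (conjugateEquiv adj₁ adj₂ τ).naturality, ← Category.assoc, ← Category.assoc,
    unit_conjugateEquiv]

variable {X S X' S' : Scheme.{u}} (f : X ⟶ S) (φ : S' ⟶ S) (q : X' ⟶ S') (ψ : X' ⟶ X)

/-- Transposes and equalities of morphisms. -/
theorem homEquiv_congr {Y : Scheme.{u}} {a b : X' ⟶ Y} (h : a = b) {c : Y.Modules} {d : X'.Modules}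
    (x : (pullback b).obj c ⟶ d) :
    (pullbackPushforwardAdjunction a).homEquiv c d ((pullbackCongr h).hom.app c ≫ x) =
      (pullbackPushforwardAdjunction b).homEquiv c d x ≫ (pushforwardCongr h.symm).hom.app d := by
  subst h
  simp [pullbackCongr]
  refine (Category.comp_id _).symm.trans (congrArg (_ ≫ ·) ?_)
  ext
  simp

/-- The map built from the counit is the base change map. -/
theorem eq_bc0 (w : ψ ≫ f = q ≫ φ) (F : X.Modules) :
    ((pullbackPushforwardAdjunction q).homEquiv _ _
      ((pullbackComp q φ).hom.app ((pushforward f).obj F) ≫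
        (pullbackCongr w.symm).hom.app _ ≫ (pullbackComp ψ f).inv.app _ ≫
        (pullback ψ).map ((pullbackPushforwardAdjunction f).counit.app F))) =
      CohBC.bc0 f φ q ψ w F := by
  let adjC := (pullbackPushforwardAdjunction φ).comp (pullbackPushforwardAdjunction q)
  let adjD := (pullbackPushforwardAdjunction f).comp (pullbackPushforwardAdjunction ψ)
  apply ((pullbackPushforwardAdjunction φ).homEquiv _ _).injective
  refine Eq.trans ?_ (((pullbackPushforwardAdjunction φ).homEquiv _ _).apply_symm_apply _).symm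
  have h1 : conjugateEquiv (pullbackPushforwardAdjunction (q ≫ φ)) adjC (pullbackComp q φ).hom =
      (pushforwardComp q φ).inv := by
    rw [← cancel_epi (pushforwardComp q φ).hom, Iso.hom_inv_id,
      ← conjugateEquiv_pullbackComp_inv, conjugateEquiv_comp, Iso.hom_inv_id, conjugateEquiv_id]
  have e : adjC.homEquiv _ _ ((pullbackComp q φ).hom.app ((pushforward f).obj F) ≫
      (pullbackCongr w.symm).hom.app _ ≫ (pullbackComp ψ f).inv.app _ ≫
      (pullback ψ).map ((pullbackPushforwardAdjunction f).counit.app F)) =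
      CohBC.bc0Adj f φ q ψ w F := by
    rw [homEquiv_conjugate (pullbackPushforwardAdjunction (q ≫ φ)) adjC, h1, homEquiv_congr,
      homEquiv_conjugate adjD (pullbackPushforwardAdjunction (ψ ≫ f)),
      conjugateEquiv_pullbackComp_inv]
    have h2 : adjD.homEquiv _ _ ((pullback ψ).map ((pullbackPushforwardAdjunction f).counit.app F)) =
        (pushforward f).map ((pullbackPushforwardAdjunction ψ).unit.app F) := by
      rw [Adjunction.comp_homEquiv]
      simp only [Equiv.trans_apply, Adjunction.homEquiv_unit]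
      rw [(pullbackPushforwardAdjunction ψ).unit_naturality, Functor.map_comp]
      exact (pullbackPushforwardAdjunction f).right_triangle_components_assoc F _
    rw [h2]
    simp [CohBC.bc0Adj]
  rw [← e, Adjunction.comp_homEquiv]
  rfl

end Groth.Agent.Lib.ExchangeFP29.Mate
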