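import Groth.Agent.Lib.ExchangeFP29.RegSheaf
import Groth.Agent.Lib.ExchangeFP29.Mate
import Groth.Agent.Lib.ExchangeFP29.FieldPoint

/-!
# Base change of relatively regular flat modules
-/

set_option autoImplicit false
set_option linter.style.haveILetI false
universe u

open CategoryTheory CategoryTheory.Limits AlgebraicGeometry
open Groth.Agent Groth.Agent.Lib Groth.Agent.Lib.TensorMod.Basic

noncomputable section

namespace Groth.Agent.Lib.ExchangeFP29.RegSheafBC

variable {n : ℕ} {S : Scheme.{u}}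

theorem fiberRank_congr {X : Scheme.{u}} (f : X ⟶ S) {F G : X.Modules} (e : F ≅ G) (p : ℕ) (s : S) :
    CohIII.fiberRank f F p s = CohIII.fiberRank f G p s := by
  letI : (f.fiber s).Over (Spec (CommRingCat.of (S.residueField s))) :=
    ⟨f.fiberToSpecResidueField s⟩
  exact (Curves.LES.isoK (S.residueField s)
    ((Scheme.Modules.pullback (f.fiberι s)).mapIso e) p).finrank_eq

theorem projSpaceMap_eq {T : Scheme.{u}} (φ : T ⟶ S) :
    KRR.projSpaceMap n φ = ProjSpace.BaseChange.overMap n φ := by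
  refine pullback.hom_ext ?_ ?_
  · refine (pullback.lift_fst _ _ _).trans ?_
    rw [Category.comp_id]
    exact (ProjSpace.BaseChange.overMap_fst n φ).symm
  · refine (pullback.lift_snd _ _ _).trans ?_
    exact (ProjSpace.BaseChange.overMap_toBase n φ).symm

theorem isPullback {T : Scheme.{u}} (φ : T ⟶ S) :
    IsPullback (KRR.projSpaceMap n φ) (KRR.pr n T) (KRR.pr n S) φ := by
  rw [projSpaceMap_eq]
  exact ProjSpace.BaseChange.isPullback_overMap n φ

/-- Twists commute with base change. -/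
theorem nonempty_tw'_iso {T : Scheme.{u}} (φ : T ⟶ S) (F : (KRR.PY n S).Modules) (d : ℤ) :
    Nonempty ((Scheme.Modules.pullback (KRR.projSpaceMap n φ)).obj (ProjFibre.tw' F d) ≅
      ProjFibre.tw' ((Scheme.Modules.pullback (KRR.projSpaceMap n φ)).obj F) d) := by
  have h := projSpaceMap_eq (n := n) φ
  exact ⟨TensorMod.Pullback.pullbackTensorIso _ _ _ ≪≫ tensorIso (Iso.refl _)
    ((Scheme.Modules.pullbackComp _ _).app _ ≪≫
      (Scheme.Modules.pullbackCongr (by rw [h]; exact ProjSpace.BaseChange.overMap_fst n φ)).app _)⟩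

variable (F : (KRR.PY n S).Modules) [F.IsQuasicoherent]
  (hF : CohB1.IsFP F) (hfl : FlatMod.IsFlatOver (KRR.pr n S) F) (hreg : KRR.IsRegSheaf n S F)

include hF hfl hreg

/-- Regularity is stable under base change. -/
theorem isRegSheaf_pullback {T : Scheme.{u}} (φ : T ⟶ S)
    (hfl' : FlatMod.IsFlatOver (KRR.pr n T)
      ((Scheme.Modules.pullback (KRR.projSpaceMap n φ)).obj F)) :
    KRR.IsRegSheaf n T ((Scheme.Modules.pullback (KRR.projSpaceMap n φ)).obj F) := by
  haveI := QCoh.Pullback.isQCoh_pullback (KRR.projSpaceMap n φ) F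
  refine RegSheaf.isRegSheaf _ (H47.FlatLimit.isFP_pullback _ _ hF) hfl' fun t i hi => ?_
  obtain ⟨e⟩ := nonempty_tw'_iso φ F (0 - (i : ℤ))
  haveI := ProjFibre.isQCoh_tw' F (0 - (i : ℤ))
  rw [← fiberRank_congr _ e, FieldPoint.fiberRank_baseChange (KRR.pr n S) _
    (ProjFibre.isFP_tw' F hF _) (ProjFibre.isFlat_tw' F hfl _) φ _ _ (isPullback φ) i t]
  exact RegSheaf.regPt F hF hfl hreg _ i hi

/-- The direct image of a relatively regular flat module is locally free. -/
theorem isFinLocFree_push : FlatMod.IsFinLocFree ((Scheme.Modules.pushforward (KRR.pr n S)).obj F) :=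
  TensorMod.LocFree.of_iso
    ((Scheme.Modules.pushforward (KRR.pr n S)).mapIso (RegSheaf.twZeroIso F))
    (ProjFibre.isFinLocFree_push F hF hfl (RegSheaf.regPt F hF hfl hreg) le_rfl)

/-- Its formation commutes with base change. -/
theorem isIso_bcMap {T : Scheme.{u}} (φ : T ⟶ S)
    (hsq : KRR.projSpaceMap n φ ≫ KRR.pr n S = KRR.pr n T ≫ φ) :
    IsIso (KRR.bcMap n φ hsq F) := by
  have h1 : ∀ t, CohIII.fiberRank (KRR.pr n S) F 1 (φ t) = 0 := fun t => by
    rw [← fiberRank_congr _ (RegSheaf.twZeroIso F)]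
    exact ProjFibre.rank_eq_zero_of_le F hF hfl (RegSheaf.regPt F hF hfl hreg _) le_rfl (by omega)
  have e : KRR.bcMap n φ hsq F =
      CohBC.bc0 (KRR.pr n S) φ (KRR.pr n T) (KRR.projSpaceMap n φ) hsq F :=
    Mate.eq_bc0 (KRR.pr n S) φ (KRR.pr n T) (KRR.projSpaceMap n φ) hsq F
  rw [e]
  exact Main.isIso_bc0 _ F hF hfl φ _ _ (isPullback φ) h1

end Groth.Agent.Lib.ExchangeFP29.RegSheafBC
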